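import Cfsg.Agent.Lib.Small.Singer.Cube

/-!
The three possible shapes: elementary of order `q ^ 2`, abelian with all involutions fixed, or
non-abelian of order `q ^ 3` with all squares fixed.
-/

set_option autoImplicit false
set_option linter.unusedSectionVars false
set_option maxHeartbeats 800000

open scoped commutatorElement

namespace CfsgLib.Small.Singer

universe u

/-- The possible outcomes. -/
def Shape (n : ℕ) (T : Type*) [Group T] (C : Subgroup T) : Prop :=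
  ((∀ x y : T, x * y = y * x) ∧
      ((Nat.card T = 2 ^ n * 2 ^ n ∧ ∀ x : T, x * x = 1) ∨ ∀ x : T, x * x = 1 → x ∈ C)) ∨
    ((∃ x y : T, x * y ≠ y * x) ∧ Nat.card T = 2 ^ n * 2 ^ n * 2 ^ n ∧ ∀ x : T, x * x ∈ C)

variable {T : Type*} [Group T] [Finite T] {F : Type*} [Field F] [Finite F] [CharP F 2]
  {n : ℕ} {C : Subgroup T} {α ρ : MulAut T} {c : F} {e : F → T}

theorem map_alpha (D : Dat n C α ρ) : C.map (α : T →* T) = C := by
  refine le_antisymm ?_ fun v hv => ⟨v, hv, (D.fix v).2 hv⟩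
  rintro _ ⟨v, hv, rfl⟩
  show α v ∈ C
  rw [(D.fix v).2 hv]; exact hv

theorem map_rho (D : Dat n C α ρ) : C.map (ρ : T →* T) = C := by
  refine Subgroup.eq_of_le_of_card_ge ?_ ?_
  · rintro _ ⟨v, hv, rfl⟩
    exact D.mapsTo hv
  · exact (Nat.card_congr (C.equivMapOfInjective (ρ : T →* T) ρ.injective).toEquiv).le

/-- The quotient by the fixed subgroup, with its coordinates. -/
theorem quot_dat (D : Dat n C α ρ) [C.Normal] {a : T} (ha : a ∈ D.up) (haC : a ∉ C)
    (K : Coord C ρ c e) {u : F → T} (huU : ∀ x, u x ∈ D.up) (hud : ∀ x, (u x)⁻¹ * α (u x) = e x)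
    (huadd : ∀ x y, ∃ v ∈ C, u (x + y) = u x * u y * v)
    (husc : ∀ x, ∃ v ∈ C, u (c * x) = ρ (u x) * v) (husurj : ∀ z ∈ D.up, ∃ x, ∃ v ∈ C, z = u x * v) :
    Dat n (D.up.map (QuotientGroup.mk' C)) (QuotientGroup.congr C C α (map_alpha D))
        (QuotientGroup.congr C C ρ (map_rho D)) ∧
      Coord (D.up.map (QuotientGroup.mk' C)) (QuotientGroup.congr C C ρ (map_rho D)) c
        fun x => ((u x : T) : T ⧸ C) := by
  set π := QuotientGroup.mk' C
  set αq := QuotientGroup.congr C C α (map_alpha D)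
  set ρq := QuotientGroup.congr C C ρ (map_rho D)
  have hρk : ∀ (k : ℕ) (x : T), (ρq ^ k) (x : T ⧸ C) = (((ρ ^ k) x : T) : T ⧸ C) := by
    intro k
    induction k with
    | zero => intro x; rfl
    | succ k ih => intro x; rw [pow_succ', MulAut.mul_apply, ih, pow_succ', MulAut.mul_apply]; rfl
  have hmk : ∀ {x : T}, ((x : T) : T ⧸ C) ∈ D.up.map π → x ∈ D.up := by
    rintro x ⟨y, hy, e⟩
    have := mul_mem hy (D.le_up (QuotientGroup.eq.1 e))
    rwa [mul_inv_cancel_left] at this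
  refine ⟨⟨D.two_le, D.pg.to_quotient C, ?_, ?_, ?_, ?_, ?_, ?_, ?_⟩, ⟨⟨fun x y => ?_, fun x => ?_⟩, ?_, ?_, K.gen⟩⟩
  · let g : D.up →* T ⧸ C := π.comp D.up.subtype
    have hr : g.range = D.up.map π := by rw [MonoidHom.range_comp, Subgroup.range_subtype]
    have hk : g.ker = C.subgroupOf D.up := by
      rw [← MonoidHom.comap_ker, QuotientGroup.ker_mk']; rfl
    have h := Subgroup.card_mul_index g.ker
    rw [Subgroup.index_ker, hr, hk, Nat.card_congr (Subgroup.subgroupOfEquivOfLe D.le_up).toEquiv,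
      D.card, D.card_up ha haC] at h
    exact Nat.eq_of_mul_eq_mul_left (by positivity) h
  · rintro _ ⟨v, hv, rfl⟩
    rw [← map_mul]
    exact (QuotientGroup.eq_one_iff _).2 (D.up_sq hv)
  · intro q
    induction q using QuotientGroup.induction_on with
    | H x => exact congrArg QuotientGroup.mk (D.tt x)
  · intro q
    induction q using QuotientGroup.induction_on with
    | H x => exact congrArg QuotientGroup.mk (D.comm x)
  · intro q
    induction q using QuotientGroup.induction_on with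
    | H x =>
      constructor
      · intro h
        have h' : ((α x : T) : T ⧸ C) = (x : T ⧸ C) := h
        exact ⟨x, QuotientGroup.eq.1 h'.symm, rfl⟩
      · intro h
        have hx : x ∈ D.up := hmk h
        exact (QuotientGroup.eq.2 hx).symm
  · refine MulEquiv.ext fun q => ?_
    induction q using QuotientGroup.induction_on with
    | H x => rw [hρk, D.pow]; rfl
  · rintro _ ⟨x, hx, rfl⟩ _ ⟨y, hy, rfl⟩ hx1 hy1
    have hne : ∀ {z : T}, z ∈ D.up → π z ≠ 1 → z⁻¹ * α z ≠ 1 := fun {z} hz h h' =>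
      h ((QuotientGroup.eq_one_iff z).2 ((D.fix z).1 (inv_mul_eq_one.1 h').symm))
    obtain ⟨k, hk⟩ := D.trans _ hx _ hy (hne hx hx1) (hne hy hy1)
    refine ⟨k, ?_⟩
    show (ρq ^ k) (x : T ⧸ C) = (y : T ⧸ C)
    rw [hρk, QuotientGroup.eq, ← D.fix, map_mul, map_inv, D.pow_comm,
      show α x = x * (x⁻¹ * α x) by group, show α y = y * (y⁻¹ * α y) by group, map_mul, hk,
      mul_inv_rev]
    have hc := D.central _ (inv_mem hy) (((ρ ^ k) x)⁻¹)
    calc (y⁻¹ * α y)⁻¹ * ((ρ ^ k) x)⁻¹ * (y * (y⁻¹ * α y))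
        = ((ρ ^ k) x)⁻¹ * (y⁻¹ * α y)⁻¹ * (y * (y⁻¹ * α y)) := by rw [hc]
      _ = ((ρ ^ k) x)⁻¹ * ((y⁻¹ * α y)⁻¹ * y) * (y⁻¹ * α y) := by group
      _ = ((ρ ^ k) x)⁻¹ * (y * (y⁻¹ * α y)⁻¹) * (y⁻¹ * α y) := by rw [D.central _ (inv_mem hy) y]
      _ = _ := by group
  · obtain ⟨v, hv, h⟩ := huadd x y
    show ((u (x + y) : T) : T ⧸ C) = _
    rw [h, QuotientGroup.mk_mul_of_mem _ hv, QuotientGroup.mk_mul]
  · obtain ⟨v, hv, h⟩ := husc x
    show ((u (c * x) : T) : T ⧸ C) = _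
    rw [h, QuotientGroup.mk_mul_of_mem _ hv]
    rfl
  · intro x y h
    refine K.inj ?_
    have h' : (u x)⁻¹ * u y ∈ C := QuotientGroup.eq.1 h
    rw [← hud, ← hud]
    conv_rhs => rw [← mul_inv_cancel_left (u x) (u y), map_mul, (D.fix _).2 h', mul_inv_rev]
    calc (u x)⁻¹ * α (u x) = ((u x)⁻¹ * u y)⁻¹ * ((u x)⁻¹ * α (u x)) * ((u x)⁻¹ * u y) := by
          rw [mul_assoc, ← D.central _ (huU x) ((u x)⁻¹ * u y), inv_mul_cancel_left]
      _ = _ := by group
  · intro q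
    constructor
    · rintro ⟨z, hz, rfl⟩
      obtain ⟨x, v, hv, rfl⟩ := husurj z hz
      exact ⟨x, (QuotientGroup.mk_mul_of_mem _ hv).symm⟩
    · rintro ⟨x, rfl⟩
      exact ⟨u x, huU x, rfl⟩

/-- If all involutions of the abelian quotient are fixed, the group is abelian. -/
theorem quot_omega (D : Dat n C α ρ) [C.Normal] {a : T} (ha : a ∈ D.up) (haC : a ∉ C)
    (hab : ∀ p q : T ⧸ C, p * q = q * p)
    (hΩ : ∀ q : T ⧸ C, q * q = 1 → q ∈ D.up.map (QuotientGroup.mk' C)) :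
    ∀ x y : T, x * y = y * x := by
  classical
  haveI := Fact.mk Nat.prime_two
  obtain ⟨c, e, K⟩ := D.exists_coord
  obtain ⟨u, huU, hud, huadd, husc, husurj⟩ := D.exists_upLine ha haC K
  obtain ⟨Dq, Kq⟩ := quot_dat D ha haC K huU hud huadd husc husurj
  set π := QuotientGroup.mk' C
  letI : CommGroup (T ⧸ C) := { (inferInstance : Group (T ⧸ C)) with mul_comm := hab }
  obtain ⟨g₀, hg₀⟩ :=
    Monoid.exists_orderOf_eq_exponent (G := T ⧸ C) Monoid.ExponentExists.of_finite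
  obtain ⟨m', hm'⟩ := IsPGroup.iff_orderOf.1 Dq.pg g₀
  have hexp : ∀ q : T ⧸ C, q ^ 2 ^ m' = 1 := fun q => by
    rw [← hm', hg₀]; exact Monoid.pow_exponent_eq_one q
  obtain ⟨m, rfl⟩ : ∃ m, m' = m + 1 := by
    refine Nat.exists_eq_succ_of_ne_zero ?_
    rintro rfl
    exact haC ((QuotientGroup.eq_one_iff a).1 (by simpa using hexp (a : T ⧸ C)))
  let P : T ⧸ C →* T ⧸ C := powMonoidHom (2 ^ m)
  let S : T ⧸ C →* T ⧸ C := powMonoidHom 2
  have hPU : ∀ q, P q ∈ D.up.map π := fun q => hΩ _ (by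
    show q ^ 2 ^ m * q ^ 2 ^ m = 1
    rw [← pow_add, ← two_mul, ← pow_succ', hexp])
  have hP0 : P g₀ ≠ 1 := pow_ne_one_of_lt_orderOf (by positivity)
    (by rw [hm']; exact Nat.pow_lt_pow_right (by norm_num) (by omega))
  have hrange : P.range = D.up.map π := by
    refine le_antisymm (by rintro _ ⟨q, rfl⟩; exact hPU q) ?_
    refine Dq.le_of_invariant ?_ (hPU g₀) ⟨g₀, rfl⟩ hP0
    rintro _ ⟨q, rfl⟩
    exact ⟨_, (map_pow (QuotientGroup.congr C C ρ (map_rho D)) q (2 ^ m)).symm⟩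
  have hSker : S.ker = D.up.map π := Subgroup.ext fun q => by
    rw [MonoidHom.mem_ker, show S q = q * q from pow_two q]
    exact ⟨hΩ q, Dq.exp2 q⟩
  have hker : P.ker = S.range := by
    refine (Subgroup.eq_of_le_of_card_ge ?_ ?_).symm
    · rintro _ ⟨q, rfl⟩
      show (q ^ 2) ^ 2 ^ m = 1
      rw [← pow_mul, ← pow_succ', hexp]
    · have h1 := Subgroup.card_mul_index P.ker
      have h2 := Subgroup.card_mul_index S.ker
      rw [Subgroup.index_ker, hrange] at h1
      rw [Subgroup.index_ker, hSker, mul_comm] at h2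
      exact le_of_eq (Nat.eq_of_mul_eq_mul_right Nat.card_pos (h1.trans h2.symm))
  have hlift : ∀ x, ∃ w : T, P (w : T ⧸ C) = ((u x : T) : T ⧸ C) := fun x => by
    obtain ⟨q, hq⟩ : ((u x : T) : T ⧸ C) ∈ P.range := hrange ▸ ⟨u x, huU x, rfl⟩
    induction q using QuotientGroup.induction_on with
    | H w => exact ⟨w, hq⟩
  choose w hw using hlift
  have hcm : ∀ x y : T, ⁅x, y⁆ ∈ C := fun x y => by
    rw [← QuotientGroup.eq_one_iff]
    show π ⁅x, y⁆ = 1
    rw [map_commutatorElement, commutatorElement_eq_one_iff_mul_comm]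
    exact hab _ _
  have cl : ∀ p q z : T, ⁅p * q, z⁆ = ⁅p, z⁆ * ⁅q, z⁆ := fun p q z =>
    cm_mul_left (D.central _ (hcm q z))
  have cr : ∀ p q z : T, ⁅z, p * q⁆ = ⁅z, p⁆ * ⁅z, q⁆ := fun p q z =>
    cm_mul_right (D.central _ (hcm z q))
  -- commutators only depend on the value of `P`
  have hcongr : ∀ p p' : T, P (p : T ⧸ C) = P (p' : T ⧸ C) → ∀ z : T, ⁅p, z⁆ = ⁅p', z⁆ := by
    intro p p' h z
    have h' : ((p'⁻¹ * p : T) : T ⧸ C) ∈ P.ker := by
      rw [MonoidHom.mem_ker, QuotientGroup.mk_mul, QuotientGroup.mk_inv, map_mul, map_inv, h,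
        inv_mul_cancel]
    rw [hker] at h'
    obtain ⟨r, hr⟩ := h'
    induction r using QuotientGroup.induction_on with
    | H r =>
      have hr' : ((r * r : T) : T ⧸ C) = ((p'⁻¹ * p : T) : T ⧸ C) := by
        rw [← hr]; show ((r * r : T) : T ⧸ C) = (r : T ⧸ C) ^ 2; rw [pow_two]; rfl
      have hv := QuotientGroup.eq.1 hr'
      rw [show p = p' * (r * r * ((r * r)⁻¹ * (p'⁻¹ * p))) by group, cl, cl, cl, D.cm_eq_one hv, mul_one,
        D.exp2 _ (hcm r z), mul_one]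
  have hcongr' : ∀ p p' : T, P (p : T ⧸ C) = P (p' : T ⧸ C) → ∀ z : T, ⁅z, p⁆ = ⁅z, p'⁆ := by
    intro p p' h z
    rw [← commutatorElement_inv, hcongr p p' h z, commutatorElement_inv]
  have hPw : ∀ x y, P ((w (x + y) : T) : T ⧸ C) = P ((w x * w y : T) : T ⧸ C) := fun x y => by
    rw [hw, QuotientGroup.mk_mul, map_mul, hw, hw]
    exact Kq.line.add x y
  have hPw' : ∀ x, P ((w (c * x) : T) : T ⧸ C) = P ((ρ (w x) : T) : T ⧸ C) := fun x => by
    rw [hw]
    refine (Kq.line.scale x).trans ?_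
    show QuotientGroup.congr C C ρ (map_rho D) _ = _
    rw [← hw]
    exact map_pow (QuotientGroup.congr C C ρ (map_rho D)) _ (2 ^ m)
  obtain ⟨g, hg, hB⟩ := K.pairing (fun x y => ⁅w x, w y⁆) (fun x y => hcm _ _)
    (fun x y z => (hcongr _ _ (hPw x y) _).trans (cl _ _ _))
    (fun x y z => (hcongr' _ _ (hPw y z) _).trans (cr _ _ _))
    (fun x y => by
      show ⁅w (c * x), w (c * y)⁆ = _
      rw [hcongr _ _ (hPw' x), hcongr' _ _ (hPw' y), ← map_commutatorElement])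
  have hg0 := hg.eq_zero fun x => K.inj (by rw [← hB, commutatorElement_self, K.line.zero])
  intro x y
  have hsurj : ∀ z : T, ∃ i, P (z : T ⧸ C) = P ((w i : T) : T ⧸ C) := fun z => by
    obtain ⟨i, hi⟩ := (Kq.range _).1 (hPU (z : T ⧸ C))
    exact ⟨i, by rw [hw]; exact hi.symm⟩
  obtain ⟨i, hi⟩ := hsurj x
  obtain ⟨j, hj⟩ := hsurj y
  rw [← commutatorElement_eq_one_iff_mul_comm, hcongr _ _ hi, hcongr' _ _ hj, hB, hg0, K.line.zero]

/-- The quotient cannot be non-abelian of order `q ^ 3`. -/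
theorem quot_cube (D : Dat n C α ρ) [C.Normal] {a : T} (ha : a ∈ D.up) (haC : a ∉ C)
    (hna : ∃ p q : T ⧸ C, p * q ≠ q * p) (hcard : Nat.card (T ⧸ C) = 2 ^ n * 2 ^ n * 2 ^ n)
    (hsq : ∀ q : T ⧸ C, q * q ∈ D.up.map (QuotientGroup.mk' C)) : False := by
  obtain ⟨c, e, K⟩ := D.exists_coord
  obtain ⟨u, huU, hud, huadd, husc, husurj⟩ := D.exists_upLine ha haC K
  obtain ⟨Dq, Kq⟩ := quot_dat D ha haC K huU hud huadd husc husurj
  obtain ⟨f, Fr⟩ := exists_frame Dq Kq hsq hcard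
  obtain ⟨k, hk⟩ := Fr.formula Kq hsq
  set π := QuotientGroup.mk' C
  have hk0 : k ≠ 0 := by
    rintro rfl
    obtain ⟨p, q, hpq⟩ := hna
    exact hpq (commutatorElement_eq_one_iff_mul_comm.1 (by rw [hk, zero_mul]; exact Kq.line.zero))
  have hmemU : ∀ {x : T}, f (π x) = 0 → x ∈ D.up := fun {x} h => by
    obtain ⟨y, hy, e⟩ := (Fr.ker _).1 h
    have := mul_mem hy (D.le_up (QuotientGroup.eq.1 e))
    rwa [mul_inv_cancel_left] at this
  have hUP : ∀ {x : T}, x ∈ D.up → f (π x) = 0 := fun {x} h => (Fr.ker _).2 ⟨x, h, rfl⟩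
  have hcmq : ∀ s t : T, π ⁅s, t⁆ = ((u (k * (rt ((f (π s)).1 * (f (π t)).2) +
      rt ((f (π s)).2 * (f (π t)).1))) : T) : T ⧸ C) := fun s t => by
    rw [map_commutatorElement, hk]
  have hcmU : ∀ s t : T, ⁅s, t⁆ ∈ D.up := fun s t => hmemU (by
    rw [hcmq]; exact hUP (huU _))
  have hUcm : ∀ z ∈ D.up, ∀ x, ⁅z, x⁆ ∈ C := fun z hz x => by
    rw [← QuotientGroup.eq_one_iff]
    show π ⁅z, x⁆ = 1
    rw [map_commutatorElement, commutatorElement_eq_one_iff_mul_comm]
    exact (Dq.central _ ⟨z, hz, rfl⟩ _).symm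
  have hUcm' : ∀ z ∈ D.up, ∀ x, ⁅x, z⁆ ∈ C := fun z hz x => by
    rw [← commutatorElement_inv]; exact inv_mem (hUcm z hz x)
  have hex : ∀ p, ∃ x : T, f (π x) = p := fun p => by
    obtain ⟨q, hq⟩ := Fr.surj p
    induction q using QuotientGroup.induction_on with
    | H x => exact ⟨x, hq⟩
  choose L hL using hex
  -- congruences
  have hmod : ∀ {x y : T}, f (π x) = f (π y) → ∃ z ∈ D.up, y = x * z := fun {x y} h => by
    refine ⟨x⁻¹ * y, hmemU ?_, (mul_inv_cancel_left x y).symm⟩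
    have h1 := Fr.add (π x) (π (x⁻¹ * y))
    rw [← map_mul, mul_inv_cancel_left, h, left_eq_add] at h1
    exact h1
  have hucomm : ∀ z ∈ D.up, ∀ z' ∈ D.up, (⁅z, z'⁆ : T) = 1 := fun z hz z' hz' =>
    commutatorElement_eq_one_iff_mul_comm.2 (D.up_comm z hz z' hz')
  -- the preimage is central
  have hcen : ∀ z ∈ D.up, ∀ s : T, ⁅z, s⁆ = 1 := by
    intro z hz s
    set v := f (π s) with hv
    rcases eq_or_ne v 0 with h0 | h0
    · exact hucomm z hz s (hmemU h0)
    obtain ⟨t, ht⟩ : ∃ t, rt ((f (π t)).1 * v.2) + rt ((f (π t)).2 * v.1) ≠ 0 := by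
      by_cases h2 : v.2 = 0
      · refine ⟨L (0, 1), ?_⟩
        rw [hL, h2, one_mul, mul_zero, rt_zero, zero_add, Ne, rt_eq_zero]
        exact fun h => h0 (Prod.ext h h2)
      · refine ⟨L (1, 0), ?_⟩
        rw [hL, one_mul, zero_mul, rt_zero, add_zero, Ne, rt_eq_zero]
        exact h2
    let w : GaloisField 2 n → T := fun y => L (y * v.1, y * v.2)
    have hwadd : ∀ x y, ∃ z ∈ D.up, w (x + y) = w x * w y * z := fun x y => hmod (by
      rw [map_mul, Fr.add, hL, hL, hL, add_mul, add_mul]; rfl)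
    have hwsc : ∀ x, ∃ z ∈ D.up, w (c * x) = ρ (w x) * z := fun x => hmod (by
      show f (QuotientGroup.congr C C ρ (map_rho D) (π (w x))) = _
      rw [Fr.scale, hL, hL, mul_assoc, mul_assoc])
    obtain ⟨g, hg, hB⟩ := K.pairing (fun x y => ⁅u x, w y⁆) (fun x y => hUcm _ (huU x) _)
      (fun x y y' => by
        obtain ⟨r, hr, h⟩ := huadd x y
        show ⁅u (x + y), w y'⁆ = _
        rw [h, cm_mul_left (D.central _ (hUcm _ (D.le_up hr) _)), D.cm_eq_one hr, mul_one,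
          cm_mul_left (D.central _ (hUcm _ (huU y) _))])
      (fun x y y' => by
        obtain ⟨r, hr, h⟩ := hwadd y y'
        show ⁅u x, w (y + y')⁆ = _
        rw [h, cm_mul_right (D.central _ (hUcm _ (huU x) _)), hucomm _ (huU x) r hr, mul_one,
          cm_mul_right (D.central _ (hUcm _ (huU x) _))])
      (fun x y => by
        obtain ⟨r, hr, h⟩ := husc x
        obtain ⟨r', hr', h'⟩ := hwsc y
        show ⁅u (c * x), w (c * y)⁆ = _
        rw [h, h', cm_mul_left (D.central _ (hUcm _ (D.le_up hr) _)), D.cm_eq_one hr, mul_one,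
          cm_mul_right (D.central _ (hUcm _ (D.up_invariant (huU x)) _)),
          hucomm _ (D.up_invariant (huU x)) r' hr', mul_one, ← map_commutatorElement])
    obtain ⟨r, hr, hs⟩ := hmod (x := w 1) (y := s) (by rw [hL, one_mul, one_mul])
    have hzs : ∀ z ∈ D.up, ⁅z, s⁆ = ⁅z, w 1⁆ := fun z hz => by
      rw [hs, cm_mul_right (D.central _ (hUcm z hz _)), hucomm z hz r hr, mul_one]
    have hux : ∀ z ∈ D.up, ∀ x, ((u x : T) : T ⧸ C) = (z : T ⧸ C) → ∀ q : T, ⁅z, q⁆ = ⁅u x, q⁆ := by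
      intro z hz x h q
      have hv := QuotientGroup.eq.1 h
      rw [← mul_inv_cancel_left (u x) z, cm_mul_left (D.central _ (hUcm _ (D.le_up hv) _)),
        D.cm_eq_one hv, mul_one]
    set A := k * (rt ((f (π t)).1 * v.2) + rt ((f (π t)).2 * v.1)) with hA
    set X := ⁅t, s⁆ with hX
    set Y := ⁅t, ρ s⁆ with hY
    have hXq : ((u A : T) : T ⧸ C) = (X : T ⧸ C) := (hcmq t s).symm
    have hYq : ((u (rt c * A) : T) : T ⧸ C) = (Y : T ⧸ C) := by
      refine Eq.trans ?_ (hcmq t (ρ s)).symm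
      rw [show f (π (ρ s)) = (c * v.1, c * v.2) from Fr.scale (π s)]
      congr 2
      rw [hA, mul_left_comm _ c v.2, mul_left_comm _ c v.1, rt_mul c, rt_mul c]
      ring
    have hsr : ⁅s, ρ s⁆ ∈ C := by
      rw [← QuotientGroup.eq_one_iff]
      refine (hcmq s (ρ s)).trans ?_
      rw [show f (π (ρ s)) = (c * v.1, c * v.2) from Fr.scale (π s),
        show v.1 * (c * v.2) = v.2 * (c * v.1) by ring, CharTwo.add_self_eq_zero, mul_zero]
      exact Kq.line.zero
    have key : ⁅Y, s⁆ = ⁅X, ρ s⁆ := by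
      set z₀ := ⁅s, ρ s⁆
      have hz₀ := D.central _ hsr
      have h1 : t * s * t⁻¹ = X * s := by rw [hX, commutatorElement_def]; group
      have h2 : t * ρ s * t⁻¹ = Y * ρ s := by rw [hY, commutatorElement_def]; group
      have h3 : (X * s) * (Y * ρ s) = z₀ * ((Y * ρ s) * (X * s)) := by
        rw [← h1, ← h2]
        calc t * s * t⁻¹ * (t * ρ s * t⁻¹) = t * (z₀ * (ρ s * s)) * t⁻¹ := by
              simp only [z₀, commutatorElement_def]; group
          _ = (t * z₀) * (ρ s * s) * t⁻¹ := by group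
          _ = (z₀ * t) * (ρ s * s) * t⁻¹ := by rw [hz₀ t]
          _ = _ := by group
      have l1 : (X * s) * (Y * ρ s) = ⁅Y, s⁆⁻¹ * (X * Y * (s * ρ s)) := by
        have e0 : s * Y = ⁅Y, s⁆⁻¹ * (Y * s) := by rw [commutatorElement_def]; group
        calc (X * s) * (Y * ρ s) = X * (s * Y) * ρ s := by group
          _ = (X * ⁅Y, s⁆⁻¹) * (Y * (s * ρ s)) := by rw [e0]; simp only [mul_assoc]
          _ = _ := by
            rw [D.central _ (inv_mem (hUcm Y (hcmU t (ρ s)) s)) X]; simp only [mul_assoc]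
      have l2 : (Y * ρ s) * (X * s) = ⁅X, ρ s⁆⁻¹ * (X * Y * (ρ s * s)) := by
        have e0 : ρ s * X = ⁅X, ρ s⁆⁻¹ * (X * ρ s) := by rw [commutatorElement_def]; group
        calc (Y * ρ s) * (X * s) = Y * (ρ s * X) * s := by group
          _ = (Y * ⁅X, ρ s⁆⁻¹) * (X * (ρ s * s)) := by rw [e0]; simp only [mul_assoc]
          _ = _ := by
            rw [D.central _ (inv_mem (hUcm X (hcmU t s) (ρ s))) Y,
              D.up_comm X (hcmU t s) Y (hcmU t (ρ s))]
            simp only [mul_assoc]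
      rw [l1, l2, show z₀ * (⁅X, ρ s⁆⁻¹ * (X * Y * (ρ s * s))) =
        ⁅X, ρ s⁆⁻¹ * (X * Y * (z₀ * (ρ s * s))) by
          rw [← mul_assoc z₀, ← hz₀, mul_assoc, ← mul_assoc z₀, ← hz₀]; simp only [mul_assoc],
        show z₀ * (ρ s * s) = s * ρ s by simp only [z₀, commutatorElement_def]; group] at h3
      exact inv_injective (mul_right_cancel h3)
    have e1 : ⁅X, ρ s⁆ = e (g A c) := by
      obtain ⟨r', hr', h'⟩ := hwsc 1
      rw [mul_one] at h'
      rw [← hB, hux X (hcmU t s) A hXq]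
      conv_lhs => rw [hs, map_mul]
      show _ = ⁅u A, w c⁆
      rw [h', cm_mul_right (D.central _ (hUcm _ (huU A) _)),
        hucomm _ (huU A) _ (D.up_invariant hr), mul_one,
        cm_mul_right (D.central _ (hUcm _ (huU A) _)), hucomm _ (huU A) r' hr', mul_one]
    have e2 : ⁅Y, s⁆ = e (g (rt c * A) 1) := by
      rw [← hB, hzs Y (hcmU t (ρ s)), hux Y (hcmU t (ρ s)) _ hYq]
    rw [e1, e2] at key
    have key' := K.inj key
    rw [hg.mul_left (rt_mul_self (rt c)),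
      show g A c = g A (c * 1) by rw [mul_one], ← hg.shift, hg.mul_left (rt_mul_self c)] at key'
    have hgA : g A 1 = 0 := by
      by_contra h
      have h' := mul_right_cancel₀ h key'
      have h2 : rt c * (rt c - 1) = 0 := by
        have := rt_mul_self (rt c)
        rw [h'] at this
        linear_combination this
      rcases mul_eq_zero.1 h2 with h3 | h3
      · exact K.c_ne_zero D (rt_eq_zero.1 h3)
      · refine K.c_ne_one D ?_
        rw [← rt_mul_self c, sub_eq_zero.1 h3, one_mul]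
    obtain ⟨x, hx⟩ : ∃ x, ((u x : T) : T ⧸ C) = (z : T ⧸ C) := by
      obtain ⟨x, r'', hr'', rfl⟩ := husurj z hz
      exact ⟨x, (QuotientGroup.mk_mul_of_mem _ hr'').symm⟩
    rw [hzs z hz, hux z hz x hx, hB]
    have hA0 : A ≠ 0 := mul_ne_zero hk0 ht
    rw [show x = x / A * A from (div_mul_cancel₀ x hA0).symm, hg.mul_left (rt_mul_self _), hgA, mul_zero,
      K.line.zero]
  have hcen' : ∀ z ∈ D.up, ∀ g : T, g * z = z * g := fun z hz g =>
    (commutatorElement_eq_one_iff_mul_comm.1 (hcen z hz g)).symm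
  have cl : ∀ x y z : T, ⁅x * y, z⁆ = ⁅x, z⁆ * ⁅y, z⁆ := fun x y z =>
    cm_mul_left (hcen' _ (hcmU y z))
  have cr : ∀ x y z : T, ⁅z, x * y⁆ = ⁅z, x⁆ * ⁅z, y⁆ := fun x y z =>
    cm_mul_right (hcen' _ (hcmU z y))
  have hone : ∀ z ∈ D.up, ∀ g : T, ⁅g, z⁆ = 1 := fun z hz g => by
    rw [← commutatorElement_inv, hcen z hz g, inv_one]
  -- commutators inside the second layer
  let w : GaloisField 2 n → T := fun x => L (x, 0)
  obtain ⟨g, hg, hB⟩ := K.pairing (fun x y => ⁅w x, w y⁆)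
    (fun x y => by
      rw [← QuotientGroup.eq_one_iff]
      refine (hcmq _ _).trans ?_
      simp only [w, hL, mul_zero, zero_mul, rt_zero, add_zero]
      exact Kq.line.zero)
    (fun x y y' => by
      obtain ⟨r, hr, h⟩ := hmod (x := w x * w y) (y := w (x + y))
        (by rw [map_mul, Fr.add, hL, hL, hL, Prod.mk_add_mk, add_zero])
      show ⁅w (x + y), _⁆ = _
      rw [h, cl, cl, hcen r hr, mul_one])
    (fun x y y' => by
      obtain ⟨r, hr, h⟩ := hmod (x := w y * w y') (y := w (y + y'))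
        (by rw [map_mul, Fr.add, hL, hL, hL, Prod.mk_add_mk, add_zero])
      show ⁅_, w (y + y')⁆ = _
      rw [h, cr, cr, hone r hr, mul_one])
    (fun x y => by
      have hs : ∀ x, ∃ r ∈ D.up, w (c * x) = ρ (w x) * r := fun x => hmod (by
        show f (QuotientGroup.congr C C ρ (map_rho D) (π (w x))) = _
        rw [Fr.scale, hL, hL, mul_zero])
      obtain ⟨r, hr, h⟩ := hs x
      obtain ⟨r', hr', h'⟩ := hs y
      show ⁅w (c * x), w (c * y)⁆ = _
      rw [h, h', cl, cr, hcen r hr, mul_one, hone r' hr', mul_one, ← map_commutatorElement])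
  have hg0 := hg.eq_zero fun x => K.inj (by rw [← hB, commutatorElement_self, K.line.zero])
  set s := L (0, 1)
  set t := L (1, 0)
  have hl : ∃ x, ∃ r ∈ D.up, s⁻¹ * α s = w x * r := by
    have h2 : (f (π (s⁻¹ * α s))).2 = 0 := (Fr.up _).2 (Dq.diff_mem_up hsq (π s))
    obtain ⟨r, hr, h⟩ := hmod (x := w (f (π (s⁻¹ * α s))).1) (y := s⁻¹ * α s)
      (by rw [hL]; exact Prod.ext rfl h2.symm)
    exact ⟨_, r, hr, h⟩
  obtain ⟨x, r, hr, hl⟩ := hl
  have htU : t⁻¹ * α t ∈ D.up := by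
    have h2 : π t ∈ Dq.up := (Fr.up _).1 (by rw [hL])
    have h3 : (π t)⁻¹ * π (α t) ∈ D.up.map π := h2
    rw [← map_inv, ← map_mul] at h3
    exact hmemU ((Fr.ker _).2 h3)
  have hfix : α ⁅s, t⁆ = ⁅s, t⁆ := by
    rw [map_commutatorElement, show α s = s * (w x * r) by rw [← hl]; group,
      show α t = t * (t⁻¹ * α t) by group, cr, hone _ htU, mul_one, cl, cl, hcen r hr, mul_one,
      show t = w 1 from rfl, hB, hg0, K.line.zero, mul_one]
  have hX : π ⁅s, t⁆ = 1 := (QuotientGroup.eq_one_iff _).2 ((D.fix _).1 hfix)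
  rw [hcmq, hL, hL, mul_zero, rt_zero, zero_add, one_mul, rt_one, mul_one] at hX
  exact hk0 (Kq.inj (hX.trans Kq.line.zero.symm))

theorem classify : ∀ (N : ℕ) (T : Type u) [Group T] [Finite T] (n : ℕ) (C : Subgroup T)
    (α ρ : MulAut T), Nat.card T ≤ N → Dat n C α ρ → Shape n T C := by
  intro N
  induction N using Nat.strong_induction_on with
  | _ N ih =>
  intro T _ _ n C α ρ hN D
  by_cases hab : ∀ x y : T, x * y = y * x
  · exact Or.inl ⟨hab, D.abelian_case hab⟩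
  have hna : ∃ x y : T, x * y ≠ y * x := by push Not at hab; exact hab
  have hCtop : C ≠ ⊤ := fun h => hab fun x y => D.central y (h ▸ Subgroup.mem_top y) x
  obtain ⟨a, ha, haC⟩ := D.exists_mem_up hCtop
  haveI : C.Normal := D.normalC
  obtain ⟨c, e, K⟩ := D.exists_coord
  obtain ⟨u, huU, hud, huadd, husc, husurj⟩ := D.exists_upLine ha haC K
  obtain ⟨Dq, -⟩ := quot_dat D ha haC K huU hud huadd husc husurj
  have hcard := Subgroup.card_eq_card_quotient_mul_card_subgroup C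
  rw [D.card] at hcard
  have hlt : Nat.card (T ⧸ C) < N := by
    have h0 : 0 < Nat.card (T ⧸ C) := Nat.card_pos
    have h4 : 2 ^ 2 ≤ 2 ^ n := Nat.pow_le_pow_right two_pos D.two_le
    have : Nat.card (T ⧸ C) * 4 ≤ Nat.card T := by rw [hcard]; exact Nat.mul_le_mul_left _ h4
    omega
  rcases ih _ hlt (T ⧸ C) n _ _ _ le_rfl Dq with ⟨hq, ⟨h16, hq2⟩ | hΩ⟩ | ⟨hqna, h64, hqsq⟩
  · refine Or.inr ⟨hna, by rw [hcard, h16], fun x => ?_⟩
    exact (QuotientGroup.eq_one_iff _).1 (hq2 (x : T ⧸ C))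
  · exact absurd (quot_omega D ha haC hq hΩ) hab
  · exact (quot_cube D ha haC hqna h64 hqsq).elim

end CfsgLib.Small.Singer
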