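import Cfsg.Agent.Lib.Small.Singer.Data

/-!
The groups of order `q ^ 3`: coordinates modulo the centre and the commutator formula.
-/

set_option autoImplicit false
set_option linter.unusedSectionVars false
set_option maxHeartbeats 800000

open scoped commutatorElement

namespace CfsgLib.Small.Singer

section sqrt

variable {F : Type*} [Field F] [Finite F] [CharP F 2]

theorem mul_self_inj_two {a b : F} (h : a * a = b * b) : a = b := by
  have h' : (a + b) * (a + b) = 0 := by
    linear_combination h + (b * b + a * b) * CharTwo.two_eq_zero (R := F)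
  exact CharTwo.add_eq_zero.1 (mul_self_eq_zero.1 h')

theorem exists_rt (z : F) : ∃ r : F, r * r = z :=
  Finite.surjective_of_injective (fun _ _ h => mul_self_inj_two h) z

/-- The square root. -/
noncomputable def rt (z : F) : F := (exists_rt z).choose

theorem rt_mul_self (z : F) : rt z * rt z = z := (exists_rt z).choose_spec

theorem rt_eq {r z : F} (h : r * r = z) : rt z = r := mul_self_inj_two ((rt_mul_self z).trans h.symm)

theorem rt_mul (a b : F) : rt (a * b) = rt a * rt b :=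
  rt_eq (by rw [mul_mul_mul_comm, rt_mul_self, rt_mul_self])

theorem rt_add (a b : F) : rt (a + b) = rt a + rt b :=
  rt_eq (by
    linear_combination rt_mul_self a + rt_mul_self b + (rt a * rt b) * CharTwo.two_eq_zero (R := F))

theorem rt_zero : rt (0 : F) = 0 := rt_eq (zero_mul 0)

theorem rt_one : rt (1 : F) = 1 := rt_eq (one_mul 1)

theorem rt_eq_zero {a : F} : rt a = 0 ↔ a = 0 :=
  ⟨fun h => by rw [← rt_mul_self a, h, zero_mul], fun h => by rw [h, rt_zero]⟩

end sqrt

variable {T : Type*} [Group T] [Finite T] {F : Type*} [Field F] [Finite F] [CharP F 2]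
  {n : ℕ} {C : Subgroup T} {α ρ : MulAut T} {c : F} {e : F → T}

theorem Dat.pow_comm (D : Dat n C α ρ) (k : ℕ) (x : T) : α ((ρ ^ k) x) = (ρ ^ k) (α x) := by
  induction k with
  | zero => rfl
  | succ k ih => rw [pow_succ', MulAut.mul_apply, MulAut.mul_apply, D.comm, ih]

theorem Coord.natCard (D : Dat n C α ρ) (K : Coord C ρ c e) : Nat.card F = 2 ^ n := by
  rw [← D.card]
  exact Nat.card_congr (Equiv.ofBijective (fun a => (⟨e a, K.mem a⟩ : C))
    ⟨fun a b h => K.inj (congrArg Subtype.val h), fun v => by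
      obtain ⟨a, ha⟩ := (K.range _).1 v.2
      exact ⟨a, Subtype.ext ha⟩⟩)

theorem Coord.c_ne_zero (D : Dat n C α ρ) (K : Coord C ρ c e) : c ≠ 0 := by
  rintro rfl
  have h := K.line.scale 1
  rw [zero_mul, K.line.zero] at h
  exact one_ne_zero (K.inj ((ρ.injective (h.symm.trans (map_one ρ).symm)).trans K.line.zero.symm))

theorem Coord.c_pow (D : Dat n C α ρ) (K : Coord C ρ c e) : c ^ (2 ^ n - 1) = 1 := by
  haveI := Fintype.ofFinite F
  have h := FiniteField.pow_card_sub_one_eq_one c (K.c_ne_zero D)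
  rwa [← Nat.card_eq_fintype_card, K.natCard D] at h

theorem Coord.c_ne_one (D : Dat n C α ρ) (K : Coord C ρ c e) : c ≠ 1 := by
  rintro rfl
  haveI := Fintype.ofFinite F
  classical
  have h : ∀ x : F, x = 0 ∨ x = 1 := fun x => (eq_or_ne x 0).imp_right fun hx => by
    obtain ⟨j, hj⟩ := K.gen x hx; rw [hj, one_pow]
  have hle : Fintype.card F ≤ ({0, 1} : Finset F).card :=
    Finset.card_le_card (s := Finset.univ) fun x _ => by simpa using h x
  rw [← Nat.card_eq_fintype_card, K.natCard D] at hle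
  have h4 : 2 ^ 2 ≤ 2 ^ n := Nat.pow_le_pow_right two_pos D.two_le
  have := Finset.card_le_two (a := (0 : F)) (b := 1)
  omega

/-- Coordinates of a group of order `q ^ 3` modulo the fixed subgroup. -/
structure Frame (D : Dat n C α ρ) (c : F) (f : T → F × F) : Prop where
  add : ∀ x y, f (x * y) = f x + f y
  surj : Function.Surjective f
  ker : ∀ x, f x = 0 ↔ x ∈ C
  scale : ∀ x, f (ρ x) = (c * (f x).1, c * (f x).2)
  up : ∀ x, (f x).2 = 0 ↔ x ∈ D.up

theorem Dat.diff_mem_up (D : Dat n C α ρ) (hsq : ∀ x : T, x * x ∈ C) (x : T) : x⁻¹ * α x ∈ D.up := by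
  rw [Dat.mem_up, map_mul, map_inv, D.tt]
  have h : (x⁻¹ * α x)⁻¹ * (x⁻¹ * α x)⁻¹ ∈ C := hsq _
  convert h using 1
  group

theorem Dat.cm_mem (D : Dat n C α ρ) (hsq : ∀ x : T, x * x ∈ C) (x y : T) : ⁅x, y⁆ ∈ C := by
  have h : ⁅x, y⁆ = x * x * ((x⁻¹ * y) * (x⁻¹ * y)) * (y⁻¹ * y⁻¹) := by
    rw [commutatorElement_def]; group
  rw [h]
  exact mul_mem (mul_mem (hsq _) (hsq _)) (hsq _)

theorem exists_frame (D : Dat n C α ρ) (K : Coord C ρ c e) (hsq : ∀ x : T, x * x ∈ C)
    (hcard : Nat.card T = 2 ^ n * 2 ^ n * 2 ^ n) : ∃ f, Frame D c f := by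
  classical
  haveI hN : C.Normal := D.normalC
  have hCtop : C ≠ ⊤ := fun h => by
    have h1 := D.card
    rw [h, Subgroup.card_top, hcard] at h1
    have h4 : 2 ^ 2 ≤ 2 ^ n := Nat.pow_le_pow_right two_pos D.two_le
    nlinarith
  obtain ⟨a, ha, haC⟩ := D.exists_mem_up hCtop
  obtain ⟨u, huU, hud, huadd, husc, husurj⟩ := D.exists_upLine ha haC K
  -- the coordinate on the preimage
  choose g hg using fun z : D.up => (K.range _).1 (D.d z).2
  have gadd : ∀ z w, g (z * w) = g z + g w := fun z w => K.inj (by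
    rw [K.line.add, hg, hg, hg, map_mul]; rfl)
  have gker : ∀ z, g z = 0 ↔ (z : T) ∈ C := fun z => by
    rw [← Dat.d_ker (D := D)]
    constructor
    · intro h
      exact Subtype.ext ((hg z).symm.trans (by rw [h, K.line.zero]; rfl))
    · intro h
      exact K.inj ((hg z).trans (by rw [h, K.line.zero]; rfl))
  have gcongr : ∀ z w : D.up, ((z : T) : T ⧸ C) = ((w : T) : T ⧸ C) → g z = g w := fun z w h => by
    have h' : ((z⁻¹ * w : D.up) : T) ∈ C := QuotientGroup.eq.1 h
    have e1 := gadd z (z⁻¹ * w)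
    rw [mul_inv_cancel_left, (gker _).2 h', add_zero] at e1
    exact e1.symm
  have grho : ∀ z : D.up, g ⟨ρ z, D.up_invariant z.2⟩ = c * g z := fun z => K.inj (by
    rw [K.line.scale, hg, hg, D.d_map])
  have gu : ∀ x, g ⟨u x, huU x⟩ = x := fun x => K.inj ((hg _).trans (hud x))
  -- the quotient
  have hexp : ∀ q : T ⧸ C, q * q = 1 := fun q => by
    induction q using QuotientGroup.induction_on with
    | H x => exact (QuotientGroup.eq_one_iff _).2 (hsq x)
  have hqc : ∀ p q : T ⧸ C, p * q = q * p := fun p q => by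
    induction p using QuotientGroup.induction_on with
    | H x =>
      induction q using QuotientGroup.induction_on with
      | H y =>
        rw [← commutatorElement_eq_one_iff_mul_comm, ← QuotientGroup.mk'_apply, ← QuotientGroup.mk'_apply,
          ← map_commutatorElement]
        exact (QuotientGroup.eq_one_iff _).2 (D.cm_mem hsq x y)
  letI : CommGroup (T ⧸ C) := { (inferInstance : Group (T ⧸ C)) with mul_comm := hqc }
  have hm : ∀ x y : T, (((x * y)⁻¹ * α (x * y) : T) : T ⧸ C) =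
      ((x⁻¹ * α x : T) : T ⧸ C) * ((y⁻¹ * α y : T) : T ⧸ C) := fun x y => by
    rw [map_mul]
    simp only [QuotientGroup.mk_mul, QuotientGroup.mk_inv, mul_inv_rev]
    ac_rfl
  let Dc : T → F := fun x => g ⟨x⁻¹ * α x, D.diff_mem_up hsq x⟩
  have Dadd : ∀ x y, Dc (x * y) = Dc x + Dc y := fun x y =>
    (gcongr _ (⟨x⁻¹ * α x, D.diff_mem_up hsq x⟩ * ⟨y⁻¹ * α y, D.diff_mem_up hsq y⟩)
      ((hm x y).trans (QuotientGroup.mk_mul _ _ _).symm)).trans (gadd _ _)
  have Dker : ∀ x, Dc x = 0 ↔ x ∈ D.up := fun x => gker _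
  have Dcongr : ∀ x y : T, (x : T ⧸ C) = (y : T ⧸ C) → Dc x = Dc y := fun x y h => by
    have e1 := Dadd x (x⁻¹ * y)
    rw [mul_inv_cancel_left, (Dker _).2 (D.le_up (QuotientGroup.eq.1 h)), add_zero] at e1
    exact e1.symm
  have Drho : ∀ x, Dc (ρ x) = c * Dc x := fun x => by
    show g _ = c * g _
    rw [← grho]
    congr 1
    refine Subtype.ext ?_
    show (ρ x)⁻¹ * α (ρ x) = ρ (x⁻¹ * α x)
    rw [D.comm, map_mul, map_inv]
  have Dsurj : Function.Surjective Dc := by
    let φ : T →* Multiplicative F :=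
      MonoidHom.mk' (fun x => Multiplicative.ofAdd (Dc x)) fun x y => by rw [Dadd]; rfl
    have hk : φ.ker = D.up := Subgroup.ext fun x => by
      rw [MonoidHom.mem_ker, ← Dker]
      exact ⟨fun h => congrArg Multiplicative.toAdd h, fun h => congrArg Multiplicative.ofAdd h⟩
    have h := Subgroup.card_mul_index φ.ker
    rw [Subgroup.index_ker, hk, D.card_up ha haC, hcard] at h
    have h2 : Nat.card φ.range = 2 ^ n := Nat.eq_of_mul_eq_mul_left (by positivity) h
    have htop : φ.range = ⊤ := Subgroup.eq_top_of_card_eq _ (by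
      rw [h2, Nat.card_congr Multiplicative.toAdd, K.natCard D])
    intro y
    obtain ⟨x, hx⟩ := MonoidHom.range_eq_top.1 htop (Multiplicative.ofAdd y)
    exact ⟨x, congrArg Multiplicative.toAdd hx⟩
  have hmap : C.map (ρ : T →* T) = C := by
    refine le_antisymm ?_ fun v hv => ?_
    · rintro _ ⟨v, hv, rfl⟩
      exact D.mapsTo hv
    · obtain ⟨b, rfl⟩ := (K.range _).1 hv
      refine ⟨e (c⁻¹ * b), K.mem _, ?_⟩
      show ρ (e _) = _
      rw [← K.line.scale, mul_inv_cancel_left₀ (K.c_ne_zero D)]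
  let σ : MulAut (T ⧸ C) := QuotientGroup.congr C C ρ hmap
  have hσ : σ ^ (2 ^ n - 1) = 1 := by
    have hp : ∀ (k : ℕ) (x : T), (σ ^ k) (x : T ⧸ C) = (((ρ ^ k) x : T) : T ⧸ C) := by
      intro k
      induction k with
      | zero => intro x; rfl
      | succ k ih => intro x; rw [pow_succ', MulAut.mul_apply, ih, pow_succ', MulAut.mul_apply]; rfl
    refine MulEquiv.ext fun q => ?_
    induction q using QuotientGroup.induction_on with
    | H x => rw [hp, D.pow]; rfl
  let DW : T ⧸ C → F := fun q => Dc q.out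
  have hDW : ∀ x : T, DW (x : T ⧸ C) = Dc x := fun x => Dcongr _ _ (QuotientGroup.out_eq' _)
  obtain ⟨s, hs, hsD⟩ := exists_line_section hexp σ c (K.c_ne_zero D) (2 ^ n - 1)
    (Nat.Even.sub_odd (Nat.one_le_two_pow) (Nat.even_pow.2 ⟨even_two, by have := D.two_le; omega⟩)
      odd_one)
    hσ (K.c_pow D) DW
    (fun p q => by
      induction p using QuotientGroup.induction_on with
      | H x =>
        induction q using QuotientGroup.induction_on with
        | H y => rw [← QuotientGroup.mk_mul, hDW, hDW, hDW, Dadd])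
    (fun q => by
      induction q using QuotientGroup.induction_on with
      | H x => exact (hDW (ρ x)).trans ((Drho x).trans (by rw [hDW])))
    (fun y => by obtain ⟨x, hx⟩ := Dsurj y; exact ⟨(x : T ⧸ C), (hDW x).trans hx⟩)
  let S : F → T := fun y => (s y).out
  have hS : ∀ y, ((S y : T) : T ⧸ C) = s y := fun y => QuotientGroup.out_eq' _
  have hSD : ∀ y, Dc (S y) = y := hsD
  have hr : ∀ x, x * (S (Dc x))⁻¹ ∈ D.up := fun x => by
    have h := Dadd (x * (S (Dc x))⁻¹) (S (Dc x))
    rw [inv_mul_cancel_right, hSD, right_eq_add] at h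
    exact (Dker _).1 h
  let f : T → F × F := fun x => (g ⟨x * (S (Dc x))⁻¹, hr x⟩, Dc x)
  have fadd : ∀ x y, f (x * y) = f x + f y := fun x y => by
    refine Prod.ext ?_ (Dadd x y)
    show g _ = g _ + g _
    rw [← gadd]
    apply gcongr
    show ((x * y * (S (Dc (x * y)))⁻¹ : T) : T ⧸ C) =
      ((x * (S (Dc x))⁻¹ * (y * (S (Dc y))⁻¹) : T) : T ⧸ C)
    simp only [QuotientGroup.mk_mul, QuotientGroup.mk_inv, hS, Dadd, hs.add, mul_inv_rev]
    ac_rfl
  refine ⟨f, fadd, fun p => ?_, fun x => ?_, fun x => ?_, fun x => Dker x⟩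
  · refine ⟨u p.1 * S p.2, ?_⟩
    have hD2 : Dc (u p.1 * S p.2) = p.2 := by rw [Dadd, (Dker _).2 (huU _), hSD, zero_add]
    refine Prod.ext ?_ hD2
    show g _ = p.1
    refine (gcongr _ ⟨u p.1, huU _⟩ ?_).trans (gu _)
    show ((u p.1 * S p.2 * (S (Dc (u p.1 * S p.2)))⁻¹ : T) : T ⧸ C) = _
    rw [hD2, mul_inv_cancel_right]
  · constructor
    · intro h
      have h2 : Dc x = 0 := congrArg Prod.snd h
      have h1 := (gker _).1 (congrArg Prod.fst h)
      have hS0 : S (Dc x) ∈ C := by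
        rw [← QuotientGroup.eq_one_iff, hS, h2, hs.zero]
      have := mul_mem h1 hS0
      rwa [inv_mul_cancel_right] at this
    · intro h
      have h2 : Dc x = 0 := (Dker x).2 (D.le_up h)
      refine Prod.ext ((gker _).2 ?_) h2
      refine mul_mem h (inv_mem ?_)
      rw [← QuotientGroup.eq_one_iff, hS, h2, hs.zero]
  · refine Prod.ext ?_ (Drho x)
    show g _ = c * g _
    rw [← grho]
    apply gcongr
    show ((ρ x * (S (Dc (ρ x)))⁻¹ : T) : T ⧸ C) = ((ρ (x * (S (Dc x))⁻¹) : T) : T ⧸ C)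
    rw [map_mul, map_inv, QuotientGroup.mk_mul, QuotientGroup.mk_mul, QuotientGroup.mk_inv,
      QuotientGroup.mk_inv, hS, Drho, hs.scale, ← hS (Dc x)]
    rfl

namespace Frame

variable {D : Dat n C α ρ} {f : T → F × F}

theorem one (Fr : Frame D c f) : f 1 = 0 := (Fr.ker 1).2 (one_mem _)

theorem congr (Fr : Frame D c f) {x y : T} (h : f x = f y) : ∃ v ∈ C, y = x * v := by
  refine ⟨x⁻¹ * y, (Fr.ker _).1 ?_, (mul_inv_cancel_left x y).symm⟩
  have h1 := Fr.add x (x⁻¹ * y)
  rw [mul_inv_cancel_left, h, left_eq_add] at h1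
  exact h1

theorem cm_congr (Fr : Frame D c f) {x x' y y' : T} (hx : f x = f x') (hy : f y = f y') :
    ⁅x', y'⁆ = ⁅x, y⁆ := by
  obtain ⟨v, hv, rfl⟩ := Fr.congr hx
  obtain ⟨w, hw, rfl⟩ := Fr.congr hy
  rw [cm_mul_left (b := v) (fun g => by rw [D.cm_eq_one hv, mul_one, one_mul]), D.cm_eq_one hv, mul_one,
    cm_mul_right (b := w) (fun g => by rw [D.cm_eq_one' hw, mul_one, one_mul]), D.cm_eq_one' hw, mul_one]

/-- The commutator formula. -/
theorem formula (Fr : Frame D c f) (K : Coord C ρ c e) (hsq : ∀ x : T, x * x ∈ C) :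
    ∃ k : F, ∀ x y : T, ⁅x, y⁆ =
      e (k * (rt ((f x).1 * (f y).2) + rt ((f x).2 * (f y).1))) := by
  choose S hS using Fr.surj
  have hcm := D.cm_mem hsq
  have hpair : ∀ v w : F × F, ∃ g, Weighted g ∧ ∀ a b : F,
      ⁅S (a * v.1, a * v.2), S (b * w.1, b * w.2)⁆ = e (g a b) := by
    intro v w
    have mkv : ∀ (v : F × F) (a b : F), f (S ((a + b) * v.1, (a + b) * v.2)) =
        f (S (a * v.1, a * v.2) * S (b * v.1, b * v.2)) := fun v a b => by
      rw [Fr.add, hS, hS, hS, Prod.mk_add_mk, add_mul, add_mul]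
    have skv : ∀ (v : F × F) (a : F), f (S (c * a * v.1, c * a * v.2)) = f (ρ (S (a * v.1, a * v.2))) :=
      fun v a => by rw [Fr.scale, hS, hS, mul_assoc, mul_assoc]
    refine K.pairing (fun a b => ⁅S (a * v.1, a * v.2), S (b * w.1, b * w.2)⁆) (fun a b => hcm _ _)
      (fun a b d => ?_) (fun a b d => ?_) (fun a b => ?_)
    · show ⁅S ((a + b) * v.1, (a + b) * v.2), _⁆ = _
      rw [← Fr.cm_congr (mkv v a b) rfl, cm_mul_left (D.central _ (hcm _ _))]
    · show ⁅_, S ((b + d) * w.1, (b + d) * w.2)⁆ = _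
      rw [← Fr.cm_congr rfl (mkv w b d), cm_mul_right (D.central _ (hcm _ _))]
    · show ⁅S (c * a * v.1, c * a * v.2), S (c * b * w.1, c * b * w.2)⁆ = _
      rw [← Fr.cm_congr (skv v a) (skv w b), ← map_commutatorElement]
  choose g hg using hpair
  set P : F × F → F × F → T := fun v w => ⁅S v, S w⁆ with hP
  have hPg : ∀ v w, P v w = e (g v w 1 1) := fun v w => by
    rw [← (hg v w).2]; simp [hP]
  have hself : ∀ v a b, g v v a b = 0 := fun v => (hg v v).1.eq_zero fun a =>
    K.inj (by rw [← (hg v v).2, commutatorElement_self, K.line.zero])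
  have hline : ∀ v : F × F, (∀ a b : F, P (a * v.1, a * v.2) (b * v.1, b * v.2) = 1) := fun v a b => by
    show ⁅S _, S _⁆ = 1
    rw [(hg v v).2, hself, K.line.zero]
  set k := g (1, 0) (0, 1) 1 1 with hk
  have hcross : ∀ a b : F, P (a, 0) (0, b) = e (rt (a * b) * k) := fun a b => by
    have h := (hg (1, 0) (0, 1)).2 a b
    simp only [mul_one, mul_zero] at h
    show ⁅S (a, 0), S (0, b)⁆ = _
    rw [h, (hg (1, 0) (0, 1)).1.eq_sqrt _ a b (rt_mul_self _)]
  have hinvC : ∀ v ∈ C, v⁻¹ = v := fun v hv => inv_eq_of_mul_eq_one_right (D.exp2 v hv)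
  have hcross' : ∀ a b : F, P (0, a) (b, 0) = e (rt (a * b) * k) := fun a b => by
    show ⁅S (0, a), S (b, 0)⁆ = _
    rw [← commutatorElement_inv, hinvC _ (hcm _ _), mul_comm a]
    exact hcross b a
  refine ⟨k, fun x y => ?_⟩
  have hsplit : ∀ v : F × F, f (S v) = f (S (v.1, 0) * S (0, v.2)) := fun v => by
    rw [Fr.add, hS, hS, hS, Prod.mk_add_mk, add_zero, zero_add]
  have z1 : P ((f x).1, 0) ((f y).1, 0) = 1 := by simpa using hline (1, 0) (f x).1 (f y).1
  have z2 : P (0, (f x).2) (0, (f y).2) = 1 := by simpa using hline (0, 1) (f x).2 (f y).2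
  rw [Fr.cm_congr ((hsplit (f x)).symm.trans (hS (f x))) ((hsplit (f y)).symm.trans (hS (f y))),
    cm_mul_left (D.central _ (hcm _ _)), cm_mul_right (D.central _ (hcm _ _)),
    cm_mul_right (D.central _ (hcm _ _))]
  simp only [hP] at z1 z2 hcross hcross'
  rw [z1, z2, hcross, hcross', one_mul, mul_one, ← K.line.add]
  congr 1
  ring

end Frame

end CfsgLib.Small.Singer
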