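import Cfsg.Agent.Lib.Small.Singer.Weight

/-!
Lines of an automorphism with respect to a field generator, and equivariant sections.
-/

set_option autoImplicit false
set_option linter.unusedSectionVars false

namespace CfsgLib.Small.Singer

variable {F : Type*} [Field F] {M : Type*} [Group M]

/-- An equivariant additive parametrisation. -/
structure IsLine (c : F) (σ : MulAut M) (f : F → M) : Prop where
  add : ∀ x y, f (x + y) = f x * f y
  scale : ∀ x, f (c * x) = σ (f x)

theorem IsLine.zero {c : F} {σ : MulAut M} {f : F → M} (h : IsLine c σ f) : f 0 = 1 := by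
  have e := h.add 0 0
  rwa [add_zero, left_eq_mul] at e

theorem IsLine.pow {c : F} {σ : MulAut M} {f : F → M} (h : IsLine c σ f) (j : ℕ) (x : F) :
    f (c ^ j * x) = (σ ^ j) (f x) := by
  induction j generalizing x with
  | zero => simp
  | succ j ih => rw [pow_succ, mul_assoc, ih, h.scale, pow_succ, MulAut.mul_apply]

open Finset in
/-- An equivariant section, by averaging. -/
theorem exists_line_section {A : Type*} [CommGroup A] [Finite A] [CharP F 2] [Finite F]
    (hexp : ∀ a : A, a * a = 1) (σ : MulAut A) (c : F) (hc : c ≠ 0) (N : ℕ) (hN : Odd N)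
    (hσ : σ ^ N = 1) (hcN : c ^ N = 1) (D : A → F) (hD : ∀ a b, D (a * b) = D a + D b)
    (hDσ : ∀ a, D (σ a) = c * D a) (hsurj : Function.Surjective D) :
    ∃ s : F → A, IsLine c σ s ∧ ∀ x, D (s x) = x := by
  classical
  letI : Module (ZMod 2) (Additive A) := AddCommGroup.zmodModule fun a => by
    rw [two_nsmul]; exact hexp a.toMul
  letI : Module (ZMod 2) F := AddCommGroup.zmodModule fun a => by
    rw [two_nsmul, CharTwo.add_self_eq_zero]
  let D' : Additive A →+ F := AddMonoidHom.mk' (fun a => D a.toMul) fun a b => hD _ _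
  obtain ⟨s₀, hs₀⟩ := (AddMonoidHom.toZModLinearMap 2 D').exists_rightInverse_of_surjective
    (LinearMap.range_eq_top.2 fun x => by
      obtain ⟨a, ha⟩ := hsurj x
      exact ⟨Additive.ofMul a, ha⟩)
  have hD0 : ∀ x, D (s₀ x).toMul = x := fun x => LinearMap.congr_fun hs₀ x
  let t : F → A := fun x => (s₀ x).toMul
  have htadd : ∀ x y, t (x + y) = t x * t y := fun x y => congrArg Additive.toMul (map_add s₀ x y)
  let s : F → A := fun x => ∏ k ∈ range N, (σ ^ k) (t ((c ^ k)⁻¹ * x))
  refine ⟨s, ⟨fun x y => ?_, fun x => ?_⟩, fun x => ?_⟩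
  · show ∏ k ∈ range N, _ = (∏ k ∈ range N, _) * ∏ k ∈ range N, _
    rw [← prod_mul_distrib]
    refine prod_congr rfl fun k _ => ?_
    rw [← map_mul, ← htadd, mul_add]
  · let G : ℕ → A := fun k => (σ ^ k) (t ((c ^ k)⁻¹ * (c * x)))
    have e1 : σ (s x) = ∏ k ∈ range N, G (k + 1) := by
      show σ (∏ k ∈ range N, _) = _
      rw [map_prod]
      refine prod_congr rfl fun k _ => ?_
      show σ _ = (σ ^ (k + 1)) _
      rw [pow_succ', MulAut.mul_apply, pow_succ]
      congr 3
      field_simp
    have e2 : G N = G 0 := by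
      show (σ ^ N) _ = (σ ^ 0) _
      rw [hσ, hcN, pow_zero, pow_zero]
    have e3 := prod_range_succ G N
    rw [prod_range_succ' G N, e2] at e3
    rw [e1, mul_right_cancel e3]
  · let DD : A →* Multiplicative F := MonoidHom.mk' (fun a => Multiplicative.ofAdd (D a))
      fun a b => by rw [hD]; rfl
    have e : DD (s x) = ∏ _k ∈ range N, Multiplicative.ofAdd x := by
      show DD (∏ k ∈ range N, _) = _
      rw [map_prod]
      refine prod_congr rfl fun k _ => ?_
      show Multiplicative.ofAdd (D _) = _
      congr 1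
      have hpow : ∀ (j : ℕ) a, D ((σ ^ j) a) = c ^ j * D a := by
        intro j
        induction j with
        | zero => simp
        | succ j ih => intro a; rw [pow_succ, MulAut.mul_apply, ih, hDσ, pow_succ, mul_assoc]
      rw [hpow, show D (t ((c ^ k)⁻¹ * x)) = (c ^ k)⁻¹ * x from hD0 _,
        mul_inv_cancel_left₀ (pow_ne_zero _ hc)]
    rw [prod_const, card_range, ← ofAdd_nsmul] at e
    have e' : D (s x) = N • x := congrArg Multiplicative.toAdd e
    obtain ⟨m, rfl⟩ := hN
    rw [e', add_smul, one_smul, mul_comm, mul_smul, two_nsmul, CharTwo.add_self_eq_zero, smul_zero,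
      zero_add]

end CfsgLib.Small.Singer
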