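import Cfsg.Agent.Lib.Small.FoursFixed
import Cfsg.Agent.Lib.Small.Singer.Lines
import Cfsg.Agent.Lib.Chev.Suz2.Field

/-!
2-groups with an involutory automorphism whose fixed subgroup is elementary abelian of order `2 ^ n`
and a commuting automorphism of order `2 ^ n - 1` that is transitive on it.
-/

set_option autoImplicit false
set_option linter.unusedSectionVars false
set_option maxHeartbeats 800000

open scoped commutatorElement

namespace CfsgLib.Small.Singer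

open CfsgLib.Small.FoursFixed (exists_fixed)

variable {T : Type*} [Group T] [Finite T]

/-! ### commutators with central values -/

theorem cm_mul_left {a b z : T} (hb : ∀ g, g * ⁅b, z⁆ = ⁅b, z⁆ * g) :
    ⁅a * b, z⁆ = ⁅a, z⁆ * ⁅b, z⁆ := by
  calc ⁅a * b, z⁆ = a * ⁅b, z⁆ * a⁻¹ * ⁅a, z⁆ := by simp only [commutatorElement_def]; group
    _ = ⁅b, z⁆ * ⁅a, z⁆ := by rw [hb, mul_inv_cancel_right]
    _ = _ := (hb _).symm

theorem cm_mul_right {a b z : T} (hb : ∀ g, g * ⁅z, b⁆ = ⁅z, b⁆ * g) :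
    ⁅z, a * b⁆ = ⁅z, a⁆ * ⁅z, b⁆ := by
  calc ⁅z, a * b⁆ = ⁅z, a⁆ * (a * ⁅z, b⁆ * a⁻¹) := by simp only [commutatorElement_def]; group
    _ = _ := by rw [hb, mul_inv_cancel_right]

/-! ### the hypothesis -/

/-- The data. -/
structure Dat (n : ℕ) (C : Subgroup T) (α ρ : MulAut T) : Prop where
  two_le : 2 ≤ n
  pg : IsPGroup 2 T
  card : Nat.card C = 2 ^ n
  exp2 : ∀ v ∈ C, v * v = 1
  tt : ∀ x, α (α x) = x
  comm : ∀ x, α (ρ x) = ρ (α x)
  fix : ∀ x, α x = x ↔ x ∈ C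
  pow : ρ ^ (2 ^ n - 1) = 1
  trans : ∀ x ∈ C, ∀ y ∈ C, x ≠ 1 → y ≠ 1 → ∃ k : ℕ, (ρ ^ k) x = y

variable {F : Type*} [Field F] [Finite F] [CharP F 2]

/-- Coordinates on the fixed subgroup. -/
structure Coord (C : Subgroup T) (ρ : MulAut T) (c : F) (e : F → T) : Prop where
  line : IsLine c ρ e
  inj : Function.Injective e
  range : ∀ x, x ∈ C ↔ ∃ a, e a = x
  gen : ∀ x : F, x ≠ 0 → ∃ j : ℕ, x = c ^ j

theorem Coord.mem {C : Subgroup T} {ρ : MulAut T} {c : F} {e : F → T} (K : Coord C ρ c e) (a : F) :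
    e a ∈ C := (K.range _).2 ⟨a, rfl⟩

/-- An equivariant pairing with values in the fixed subgroup is a weighted form. -/
theorem Coord.pairing {C : Subgroup T} {ρ : MulAut T} {c : F} {e : F → T} (K : Coord C ρ c e)
    (B : F → F → T) (hB : ∀ x y, B x y ∈ C) (hl : ∀ x y z, B (x + y) z = B x z * B y z)
    (hr : ∀ x y z, B x (y + z) = B x y * B x z) (hc : ∀ x y, B (c * x) (c * y) = ρ (B x y)) :
    ∃ g, Weighted g ∧ ∀ x y, B x y = e (g x y) := by
  choose g hg using fun x y => (K.range _).1 (hB x y)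
  refine ⟨g, weighted_of_gen c K.gen (fun x y z => K.inj ?_) (fun x y z => K.inj ?_)
    (fun x y => K.inj ?_), fun x y => (hg x y).symm⟩
  · rw [K.line.add, hg, hg, hg, hl]
  · rw [K.line.add, hg, hg, hg, hr]
  · rw [K.line.scale, hg, hg, hc]

namespace Dat

variable {n : ℕ} {C : Subgroup T} {α ρ : MulAut T}

theorem mapsTo (D : Dat n C α ρ) {v : T} (hv : v ∈ C) : ρ v ∈ C :=
  (D.fix _).1 (by rw [D.comm, (D.fix _).2 hv])

/-- An invariant subgroup meeting `C` contains it. -/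
theorem le_of_invariant (D : Dat n C α ρ) {H : Subgroup T} (hH : ∀ h ∈ H, ρ h ∈ H) {v : T} (hv : v ∈ C)
    (hvH : v ∈ H) (hv1 : v ≠ 1) : C ≤ H := by
  intro w hw
  rcases eq_or_ne w 1 with rfl | hw1
  · exact one_mem _
  obtain ⟨k, rfl⟩ := D.trans v hv w hw hv1 hw1
  clear hw hw1
  induction k with
  | zero => exact hvH
  | succ k ih => rw [pow_succ', MulAut.mul_apply]; exact hH _ ih

theorem central (D : Dat n C α ρ) : ∀ v ∈ C, ∀ x, x * v = v * x := by
  rcases subsingleton_or_nontrivial T with h | h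
  · exact fun v _ x => Subsingleton.elim _ _
  haveI := Fact.mk Nat.prime_two
  haveI := D.pg.center_nontrivial
  have hZ : ∀ (σ : MulAut T), ∀ q ∈ Subgroup.center T, σ q ∈ Subgroup.center T := fun σ q hq => by
    rw [← Subgroup.centerCharacteristic.fixed σ, Subgroup.mem_comap] at hq
    exact hq
  let α' : MulAut (Subgroup.center T) :=
    { toFun := fun x => ⟨α x, hZ α _ x.2⟩
      invFun := fun x => ⟨α x, hZ α _ x.2⟩
      left_inv := fun x => Subtype.ext (D.tt _)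
      right_inv := fun x => Subtype.ext (D.tt _)
      map_mul' := fun x y => Subtype.ext (map_mul α _ _) }
  obtain ⟨⟨z, hz⟩, hz1, hzf⟩ := exists_fixed (D.pg.to_subgroup _) α' fun x => Subtype.ext (D.tt _)
  have hle := D.le_of_invariant (H := Subgroup.center T) (hZ ρ)
    ((D.fix z).1 (congrArg Subtype.val hzf)) hz fun h => hz1 (Subtype.ext h)
  exact fun v hv x => Subgroup.mem_center_iff.1 (hle hv) x

theorem normalC (D : Dat n C α ρ) : C.Normal :=
  ⟨fun v hv g => by rw [D.central v hv g, mul_inv_cancel_right]; exact hv⟩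

theorem cm_eq_one (D : Dat n C α ρ) {v : T} (hv : v ∈ C) (x : T) : ⁅v, x⁆ = 1 :=
  commutatorElement_eq_one_iff_mul_comm.2 (D.central v hv x).symm

theorem cm_eq_one' (D : Dat n C α ρ) {v : T} (hv : v ∈ C) (x : T) : ⁅x, v⁆ = 1 :=
  commutatorElement_eq_one_iff_mul_comm.2 (D.central v hv x)

/-- Coordinates exist. -/
theorem exists_coord (D : Dat n C α ρ) :
    ∃ (c : GaloisField 2 n) (e : GaloisField 2 n → T), Coord C ρ c e := by
  classical
  letI : CommGroup ↥C :=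
    { (inferInstance : Group ↥C) with mul_comm := fun a b => Subtype.ext (D.central b b.2 a) }
  obtain ⟨k, hk⟩ := Chev.Suz2.exists_restrict ρ C fun x hx => D.mapsTo hx
  haveI : Nontrivial ↥C := Finite.one_lt_card_iff_nontrivial.1 (by
    rw [D.card]; exact Nat.one_lt_two_pow (by have := D.two_le; omega))
  have htr : Chev.Suz2.Trans k := by
    intro x y hx _ hy _
    obtain ⟨j, hj⟩ := D.trans x x.2 y y.2 (fun h => hx (Subtype.ext h)) (fun h => hy (Subtype.ext h))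
    exact ⟨j, Subtype.ext (by rw [hk, hj])⟩
  obtain ⟨m, i, c, hm, hbij, hadd, hik, hgen⟩ :=
    Chev.Suz2.exists_coord (fun a : ↥C => Subtype.ext (D.exp2 _ a.2)) k htr
  have hmn : m = n := by
    have h := Nat.card_eq_of_bijective i hbij
    rw [D.card, GaloisField.card 2 m hm] at h
    exact (Nat.pow_right_injective le_rfl h).symm
  subst hmn
  let E := Equiv.ofBijective i hbij
  refine ⟨c, fun x => (E.symm x : T), ⟨fun x y => ?_, fun x => ?_⟩,
    fun x y h => E.symm.injective (Subtype.ext h),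
    fun x => ⟨fun hx => ⟨i ⟨x, hx⟩, congrArg Subtype.val (E.symm_apply_apply ⟨x, hx⟩)⟩, ?_⟩, hgen⟩
  · rw [← Subgroup.coe_mul]
    refine congrArg Subtype.val (E.injective ?_)
    rw [E.apply_symm_apply]
    show _ = i _
    rw [hadd]
    exact congrArg₂ (· + ·) (E.apply_symm_apply x).symm (E.apply_symm_apply y).symm
  · have e := hk 1 (E.symm x)
    rw [pow_one, pow_one] at e
    rw [← e]
    refine congrArg Subtype.val (E.injective ?_)
    rw [E.apply_symm_apply]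
    show _ = i _
    rw [hik]
    exact congrArg (c * ·) (E.apply_symm_apply x).symm
  · rintro ⟨a, rfl⟩
    exact (E.symm a).2

/-- The preimage of the fixed points modulo `C`. -/
def up (D : Dat n C α ρ) : Subgroup T where
  carrier := {x | x⁻¹ * α x ∈ C}
  one_mem' := by simp
  mul_mem' {x y} hx hy := by
    show (x * y)⁻¹ * α (x * y) ∈ C
    rw [map_mul, show (x * y)⁻¹ * (α x * α y) = y⁻¹ * ((x⁻¹ * α x) * α y) by group,
      ← D.central _ hx (α y), ← mul_assoc]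
    exact mul_mem hy hx
  inv_mem' {x} hx := by
    show (x⁻¹)⁻¹ * α x⁻¹ ∈ C
    rw [map_inv, inv_inv]
    have h : x * (x⁻¹ * α x)⁻¹ * x⁻¹ ∈ C := by
      rw [D.central _ (inv_mem hx) x, mul_inv_cancel_right]; exact inv_mem hx
    convert h using 1
    group

theorem mem_up {D : Dat n C α ρ} {x : T} : x ∈ D.up ↔ x⁻¹ * α x ∈ C := Iff.rfl

theorem le_up (D : Dat n C α ρ) : C ≤ D.up := fun v hv => by
  rw [mem_up, (D.fix v).2 hv, inv_mul_cancel]; exact one_mem _

theorem up_invariant (D : Dat n C α ρ) {x : T} (hx : x ∈ D.up) : ρ x ∈ D.up := by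
  rw [mem_up, D.comm, ← map_inv, ← map_mul]; exact D.mapsTo hx

/-- `x ↦ x⁻¹ α(x)` -/
def d (D : Dat n C α ρ) : D.up →* C where
  toFun x := ⟨(x : T)⁻¹ * α x, x.2⟩
  map_one' := Subtype.ext (by simp)
  map_mul' x y := Subtype.ext (by
    show ((x : T) * y)⁻¹ * α ((x : T) * y) = ((x : T)⁻¹ * α x) * ((y : T)⁻¹ * α y)
    rw [map_mul]
    calc ((x : T) * y)⁻¹ * (α x * α y) = (y : T)⁻¹ * ((x : T)⁻¹ * α x) * α y := by group
      _ = ((x : T)⁻¹ * α x) * (y : T)⁻¹ * α y := by rw [D.central _ x.2 (y : T)⁻¹]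
      _ = _ := by group)

theorem d_ker {D : Dat n C α ρ} {x : D.up} : D.d x = 1 ↔ (x : T) ∈ C := by
  rw [← D.fix]
  constructor
  · intro h
    exact (inv_mul_eq_one.1 (congrArg Subtype.val h)).symm
  · intro h
    exact Subtype.ext (by show (x : T)⁻¹ * α x = 1; rw [h, inv_mul_cancel])

theorem d_map (D : Dat n C α ρ) (x : D.up) :
    (D.d ⟨ρ x, D.up_invariant x.2⟩ : T) = ρ (D.d x) := by
  show (ρ (x : T))⁻¹ * α (ρ x) = ρ ((x : T)⁻¹ * α x)
  rw [D.comm, map_mul, map_inv]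

theorem up_sq (D : Dat n C α ρ) {x : T} (hx : x ∈ D.up) : x * x ∈ C := by
  have h : D.d (⟨x, hx⟩ * ⟨x, hx⟩) = 1 := by
    rw [map_mul]
    exact Subtype.ext (D.exp2 _ (D.d ⟨x, hx⟩).2)
  exact d_ker.1 h

theorem exists_mem_up (D : Dat n C α ρ) (hC : C ≠ ⊤) : ∃ a ∈ D.up, a ∉ C := by
  haveI := D.normalC
  haveI : Nontrivial (T ⧸ C) := QuotientGroup.nontrivial_iff.2 hC
  have hmap : C.map (α : T →* T) = C := by
    refine le_antisymm ?_ fun v hv => ⟨v, hv, (D.fix v).2 hv⟩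
    rintro _ ⟨v, hv, rfl⟩
    show α v ∈ C
    rw [(D.fix v).2 hv]; exact hv
  obtain ⟨q, hq1, hq⟩ := exists_fixed (D.pg.to_quotient C) (QuotientGroup.congr C C α hmap)
    (fun q => by
      induction q using QuotientGroup.induction_on with
      | H x => exact congrArg QuotientGroup.mk (D.tt x))
  induction q using QuotientGroup.induction_on with
  | H a =>
    refine ⟨a, ?_, fun h => hq1 ((QuotientGroup.eq_one_iff a).2 h)⟩
    have h : ((α a : T) : T ⧸ C) = (a : T ⧸ C) := hq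
    exact QuotientGroup.eq.1 h.symm

theorem up_cases (D : Dat n C α ρ) {a : T} (ha : a ∈ D.up) (haC : a ∉ C) {H : Subgroup T}
    (hH : ∀ h ∈ H, ρ h ∈ H) (haH : a ∈ H) (hCH : C ≤ H) : D.up ≤ H := by
  intro x hx
  let I : Subgroup C := ((H.subgroupOf D.up).map D.d)
  have hI : ∀ i ∈ I.map C.subtype, ρ i ∈ I.map C.subtype := by
    rintro _ ⟨_, ⟨y, hy, rfl⟩, rfl⟩
    exact ⟨_, ⟨⟨ρ y, D.up_invariant y.2⟩, hH _ hy, rfl⟩, D.d_map y⟩
  have hle : C ≤ I.map C.subtype := D.le_of_invariant hI (D.d ⟨a, ha⟩).2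
    ⟨_, ⟨⟨a, ha⟩, haH, rfl⟩, rfl⟩ fun h => haC (d_ker.1 (Subtype.ext h))
  obtain ⟨_, ⟨y, hy, rfl⟩, e⟩ := hle (D.d ⟨x, hx⟩).2
  have hd : D.d (⟨x, hx⟩ * y⁻¹) = 1 := by
    rw [map_mul, map_inv, mul_inv_eq_one]; exact (Subtype.ext e).symm
  have := mul_mem (hCH (d_ker.1 hd)) (show (y : T) ∈ H from hy)
  simpa using this

theorem d_surj (D : Dat n C α ρ) {a : T} (ha : a ∈ D.up) (haC : a ∉ C) : Function.Surjective D.d := by
  have hle : C ≤ D.d.range.map C.subtype := D.le_of_invariant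
    (by rintro _ ⟨_, ⟨y, rfl⟩, rfl⟩; exact ⟨_, ⟨⟨ρ y, D.up_invariant y.2⟩, rfl⟩, D.d_map y⟩)
    (D.d ⟨a, ha⟩).2 ⟨_, ⟨_, rfl⟩, rfl⟩ fun h => haC (d_ker.1 (Subtype.ext h))
  intro v
  obtain ⟨_, ⟨y, rfl⟩, e⟩ := hle v.2
  exact ⟨y, Subtype.ext e⟩

theorem card_up (D : Dat n C α ρ) {a : T} (ha : a ∈ D.up) (haC : a ∉ C) :
    Nat.card D.up = 2 ^ n * 2 ^ n := by
  have hk : D.d.ker = C.subgroupOf D.up := Subgroup.ext fun x => by
    rw [MonoidHom.mem_ker, d_ker, Subgroup.mem_subgroupOf]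
  have h := Subgroup.card_mul_index D.d.ker
  rw [Subgroup.index_ker, MonoidHom.range_eq_top.2 (D.d_surj ha haC), Subgroup.card_top, D.card, hk,
    Nat.card_congr (Subgroup.subgroupOfEquivOfLe D.le_up).toEquiv, D.card] at h
  exact h.symm

/-- A parametrisation of the preimage. -/
theorem exists_upLine (D : Dat n C α ρ) {a : T} (ha : a ∈ D.up) (haC : a ∉ C) {c : F} {e : F → T}
    (K : Coord C ρ c e) : ∃ u : F → T, (∀ x, u x ∈ D.up) ∧ (∀ x, (u x)⁻¹ * α (u x) = e x) ∧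
      (∀ x y, ∃ v ∈ C, u (x + y) = u x * u y * v) ∧ (∀ x, ∃ v ∈ C, u (c * x) = ρ (u x) * v) ∧
      ∀ z ∈ D.up, ∃ x, ∃ v ∈ C, z = u x * v := by
  choose y hy using fun x => D.d_surj ha haC ⟨e x, K.mem x⟩
  have hu : ∀ x, (y x : T)⁻¹ * α (y x) = e x := fun x => congrArg Subtype.val (hy x)
  have hdiff : ∀ (p q : D.up), D.d p = D.d q → ∃ v ∈ C, (p : T) = q * v := fun p q h => by
    refine ⟨((q⁻¹ * p : D.up) : T), d_ker.1 (by rw [map_mul, map_inv, h, inv_mul_cancel]), ?_⟩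
    simp
  refine ⟨fun x => y x, fun x => (y x).2, hu, fun x x' => ?_, fun x => ?_, fun z hz => ?_⟩
  · refine hdiff (y (x + x')) (y x * y x') ?_
    rw [map_mul, hy, hy, hy]
    exact Subtype.ext (K.line.add x x')
  · refine hdiff (y (c * x)) ⟨ρ (y x), D.up_invariant (y x).2⟩ (Subtype.ext ?_)
    rw [D.d_map, hy, hy]
    exact K.line.scale x
  · obtain ⟨x, hx⟩ := (K.range _).1 (D.d ⟨z, hz⟩).2
    obtain ⟨v, hv, e'⟩ := hdiff ⟨z, hz⟩ (y x) (by rw [hy]; exact (Subtype.ext hx).symm)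
    exact ⟨x, v, hv, e'⟩

theorem up_comm (D : Dat n C α ρ) : ∀ p ∈ D.up, ∀ q ∈ D.up, p * q = q * p := by
  intro p hp q hq
  by_cases hpC : p ∈ C
  · exact (D.central p hpC q).symm
  obtain ⟨c, e, K⟩ := D.exists_coord
  obtain ⟨u, huU, -, huadd, husc, husurj⟩ := D.exists_upLine hp hpC K
  have hcm : ∀ x y, ⁅u x, u y⁆ ∈ C := fun x y => by
    have h : D.d ⁅(⟨u x, huU x⟩ : D.up), ⟨u y, huU y⟩⁆ = 1 := by
      rw [map_commutatorElement, commutatorElement_eq_one_iff_mul_comm]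
      exact Subtype.ext (D.central _ (D.d ⟨u y, huU y⟩).2 _)
    exact d_ker.1 h
  have h1 : ∀ {v}, v ∈ C → ∀ z : T, ∀ g, g * ⁅v, z⁆ = ⁅v, z⁆ * g := fun hv z g => by
    rw [D.cm_eq_one hv, mul_one, one_mul]
  have h1' : ∀ {v}, v ∈ C → ∀ z : T, ∀ g, g * ⁅z, v⁆ = ⁅z, v⁆ * g := fun hv z g => by
    rw [D.cm_eq_one' hv, mul_one, one_mul]
  obtain ⟨g, hg, hB⟩ := K.pairing (fun x y => ⁅u x, u y⁆) hcm
    (fun x y z => by
      obtain ⟨v, hv, hxy⟩ := huadd x y
      show ⁅u (x + y), u z⁆ = _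
      rw [hxy, cm_mul_left (h1 hv _), D.cm_eq_one hv, mul_one, cm_mul_left (D.central _ (hcm y z))])
    (fun x y z => by
      obtain ⟨v, hv, hyz⟩ := huadd y z
      show ⁅u x, u (y + z)⁆ = _
      rw [hyz, cm_mul_right (h1' hv _), D.cm_eq_one' hv, mul_one, cm_mul_right (D.central _ (hcm x z))])
    (fun x y => by
      obtain ⟨v, hv, hx⟩ := husc x
      obtain ⟨w, hw, hy⟩ := husc y
      show ⁅u (c * x), u (c * y)⁆ = _
      rw [hx, hy, cm_mul_left (h1 hv _), D.cm_eq_one hv, mul_one, cm_mul_right (h1' hw _),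
        D.cm_eq_one' hw, mul_one, ← map_commutatorElement])
  have hg0 := hg.eq_zero fun x => K.inj (by rw [← hB, commutatorElement_self, K.line.zero])
  obtain ⟨x, v, hv, rfl⟩ := husurj p hp
  obtain ⟨y, w, hw, rfl⟩ := husurj q hq
  have hxy : u x * u y = u y * u x := commutatorElement_eq_one_iff_mul_comm.1
    ((hB x y).trans (by rw [hg0, K.line.zero]))
  have hC : Commute v (u y * w) := (D.central v hv _).symm
  have hC' : Commute (u x) w := D.central w hw _
  exact ((show Commute (u x) (u y) from hxy).mul_right hC').mul_left hC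

/-! ### the abelian case -/

theorem abelian_case (D : Dat n C α ρ) (hab : ∀ x y : T, x * y = y * x) :
    (Nat.card T = 2 ^ n * 2 ^ n ∧ ∀ x : T, x * x = 1) ∨ ∀ x : T, x * x = 1 → x ∈ C := by
  letI : CommGroup T := { (inferInstance : Group T) with mul_comm := hab }
  by_cases h : ∀ x : T, x * x = 1 → x ∈ C
  · exact Or.inr h
  refine Or.inl ?_
  push Not at h
  obtain ⟨a, ha2, haC⟩ := h
  have hsub : ∀ x : T, x * x = 1 → x ∈ D.up := fun x hx => by
    rw [mem_up, ← D.fix, map_mul, map_inv, D.tt, inv_eq_of_mul_eq_one_right hx]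
    rw [inv_eq_of_mul_eq_one_right (by rw [← map_mul, hx, map_one] : α x * α x = 1), mul_comm]
  have hΩ : ∀ u ∈ D.up, u * u = 1 := by
    let Ω : Subgroup T := (powMonoidHom 2 : T →* T).ker
    have hmem : ∀ x, x ∈ Ω ↔ x * x = 1 := fun x => by
      rw [MonoidHom.mem_ker, powMonoidHom_apply, pow_two]
    intro u hu
    refine (hmem u).1 (D.up_cases (hsub a ha2) haC ?_ ((hmem a).2 ha2)
      (fun v hv => (hmem v).2 (D.exp2 v hv)) hu)
    intro x hx
    rw [hmem, ← map_mul, (hmem x).1 hx, map_one]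
  have hinvd : ∀ j : ℕ, ∀ z : T, α z = z⁻¹ → z ^ 2 ^ (j + 1) = 1 → z * z = 1 := by
    intro j
    induction j with
    | zero => intro z _ h; rwa [zero_add, pow_one, pow_two] at h
    | succ j ih =>
      intro z hz h
      set y := z ^ 2 ^ j with hy
      have hy4 : y * y * (y * y) = 1 := by
        rw [← pow_two, ← pow_two, ← pow_mul, hy, ← pow_mul, ← h]
        congr 1
        rw [pow_succ 2 (j + 1), pow_succ 2 j]; ring
      have hyi : α y = y⁻¹ := by rw [hy, map_pow, hz, inv_pow]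
      have hy2 : y * y ∈ C := (D.fix _).1 (by
        rw [map_mul, hyi, ← mul_inv, inv_eq_of_mul_eq_one_right hy4])
      have hyu : y ∈ D.up := by
        rw [mem_up, hyi, ← mul_inv]; exact inv_mem hy2
      refine ih z hz ?_
      rw [pow_succ, pow_mul, ← hy, pow_two]
      exact hΩ y hyu
  have hall : ∀ x : T, x ∈ D.up := by
    intro x
    have hδ : x * α x ∈ C := (D.fix _).1 (by rw [map_mul, D.tt, mul_comm])
    set z := x * x with hz
    have hzi : α z = z⁻¹ := by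
      rw [hz, map_mul]
      refine eq_inv_of_mul_eq_one_left ?_
      rw [mul_mul_mul_comm, mul_comm (α x) x]
      exact D.exp2 _ hδ
    obtain ⟨j, hj⟩ := D.pg z
    have hz2 : z * z = 1 := hinvd j z hzi (by rw [pow_succ, pow_mul, hj, one_pow])
    have hzC : z ∈ C := (D.fix _).1 (hzi.trans (inv_eq_of_mul_eq_one_right hz2))
    rw [mem_up, show x⁻¹ * α x = z⁻¹ * (x * α x) by rw [hz]; group]
    exact mul_mem (inv_mem hzC) hδ
  refine ⟨?_, fun x => hΩ x (hall x)⟩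
  rw [← card_up D (hsub a ha2) haC, (Subgroup.eq_top_iff' D.up).2 hall, Subgroup.card_top]

end Dat

end CfsgLib.Small.Singer
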