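import Cfsg.Agent.Lib.Small.Singer.Classify
import Cfsg.Agent.Lib.Small.Order64Aniso
import Cfsg.Agent.Lib.Chev.Suz2.PSU3
import Cfsg.Agent.Lib.Schur.PSLThreeFour
import Cfsg.Agent.Lib.Classical.Order

/-!
Squaring forms of the groups of order `q ^ 3`, their normal forms, uniqueness, and the models.
-/

set_option autoImplicit false
set_option linter.unusedSectionVars false
set_option maxHeartbeats 800000

open scoped commutatorElement

namespace CfsgLib.Small.Singer

variable {F : Type*} [Field F] [Finite F] [CharP F 2]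

/-- A central extension of `F × F` by `F` with the given squaring map. -/
def Form (P : Type*) [Group P] (Φ : F × F → F) : Prop :=
  ∃ (f : P → F × F) (e : F → P), (∀ x y, f (x * y) = f x + f y) ∧ Function.Surjective f ∧
    Function.Injective e ∧ (∀ a b, e (a + b) = e a * e b) ∧ (∀ x, f x = 0 ↔ ∃ a, e a = x) ∧
    (∀ a x, x * e a = e a * x) ∧ ∀ x, x * x = e (Φ (f x))

/-- The two normal forms. -/
noncomputable def hyp (v : F × F) : F := rt (v.1 * v.2)

/-- The anisotropic normal form. -/
noncomputable def ani (β : F) (v : F × F) : F := v.1 + rt (v.1 * v.2) + β * v.2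

theorem Form.change {P : Type*} [Group P] {Φ Ψ : F × F → F} (h : Form P Φ) (L : F × F → F × F)
    (hadd : ∀ v w, L (v + w) = L v + L w) (hker : ∀ v, L v = 0 → v = 0)
    (hΦ : ∀ v, Φ (L v) = Ψ v) : Form P Ψ := by
  obtain ⟨f, e, h1, h2, h3, h4, h5, h6, h7⟩ := h
  have hL0 : L 0 = 0 := by
    have e := hadd 0 0
    rwa [add_zero, left_eq_add] at e
  have hinj : Function.Injective L := fun v w hvw => by
    have h' : L (v + w) = 0 := by
      rw [hadd, hvw]; exact Prod.ext (CharTwo.add_self_eq_zero _) (CharTwo.add_self_eq_zero _)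
    have h'' := hker _ h'
    exact Prod.ext (CharTwo.add_eq_zero.1 (congrArg Prod.fst h'')) (CharTwo.add_eq_zero.1 (congrArg Prod.snd h''))
  let E := Equiv.ofBijective L ⟨hinj, Finite.surjective_of_injective hinj⟩
  refine ⟨fun x => E.symm (f x), e, fun x y => ?_, fun v => ?_, h3, h4, fun x => ?_, h6, fun x => ?_⟩
  · apply E.injective
    rw [Equiv.apply_symm_apply, h1]
    show _ = L _
    rw [hadd]
    exact congrArg₂ (· + ·) (E.apply_symm_apply _).symm (E.apply_symm_apply _).symm
  · obtain ⟨x, hx⟩ := h2 (L v)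
    exact ⟨x, by show E.symm (f x) = v; rw [hx]; exact E.symm_apply_apply v⟩
  · rw [← h5, Equiv.symm_apply_eq]
    show f x = L 0 ↔ _
    rw [hL0]
  · rw [h7, ← hΦ]
    exact congrArg (fun v => e (Φ v)) (E.apply_symm_apply (f x)).symm

theorem Form.natCard {P : Type*} [Group P] [Finite P] {Φ : F × F → F} (h : Form P Φ) :
    Nat.card P = Nat.card (F × F) * Nat.card F := by
  obtain ⟨f, e, a1, a2, a3, -, a5, -, -⟩ := h
  let φ : P →* Multiplicative (F × F) :=
    MonoidHom.mk' (fun x => Multiplicative.ofAdd (f x)) fun x y => by rw [a1]; rfl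
  have hsur : φ.range = ⊤ := MonoidHom.range_eq_top.2 fun v => by
    obtain ⟨x, hx⟩ := a2 v.toAdd
    exact ⟨x, congrArg Multiplicative.ofAdd hx⟩
  have h := Subgroup.card_mul_index φ.ker
  rw [Subgroup.index_ker, hsur, Subgroup.card_top, Nat.card_congr Multiplicative.toAdd] at h
  have hk : Nat.card φ.ker = Nat.card F := by
    refine (Nat.card_congr (Equiv.ofBijective (fun a => (⟨e a, congrArg Multiplicative.ofAdd
      ((a5 _).2 ⟨a, rfl⟩)⟩ : φ.ker)) ⟨fun a b h => a3 (congrArg Subtype.val h), fun x => ?_⟩)).symm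
    obtain ⟨a, ha⟩ := (a5 _).1 (congrArg Multiplicative.toAdd x.2)
    exact ⟨a, Subtype.ext ha⟩
  rw [← h, hk, mul_comm]

/-- Central extensions with the same squaring map are isomorphic. -/
theorem Form.nonempty_mulEquiv {P P' : Type*} [Group P] [Group P'] [Finite P] [Finite P']
    {Φ : F × F → F} (h : Form P Φ) (h' : Form P' Φ) : Nonempty (P ≃* P') := by
  classical
  have hc := h.natCard
  have hc' := h'.natCard
  obtain ⟨f, e, h1, h2, h3, h4, h5, h6, h7⟩ := h
  obtain ⟨f', e', g1, g2, g3, g4, g5, g6, g7⟩ := h'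
  have f1 : f 1 = 0 := by
    have e := h1 1 1
    rwa [mul_one, left_eq_add] at e
  have f1' : f' 1 = 0 := by
    have e := g1 1 1
    rwa [mul_one, left_eq_add] at e
  have e0 : e 0 = 1 := by
    have e := h4 0 0
    rwa [add_zero, left_eq_mul] at e
  have e0' : e' 0 = 1 := by
    have e := g4 0 0
    rwa [add_zero, left_eq_mul] at e
  let Δ : Set (P × P') := Set.range fun a => (e a, e' a)
  -- the admissible subgroups
  let Good : Subgroup (P × P') → Prop := fun K => (∀ x ∈ K, f x.1 = f' x.2) ∧ Δ ⊆ K ∧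
    ∀ x ∈ K, x.1 = 1 → x.2 = 1
  let K₀ : Subgroup (P × P') :=
    { carrier := Δ
      one_mem' := ⟨0, Prod.ext e0 e0'⟩
      mul_mem' := by
        rintro _ _ ⟨a, rfl⟩ ⟨b, rfl⟩
        exact ⟨a + b, Prod.ext (h4 a b) (g4 a b)⟩
      inv_mem' := by
        rintro _ ⟨a, rfl⟩
        refine ⟨a, eq_inv_of_mul_eq_one_left ?_⟩
        exact Prod.ext (by show e a * e a = 1; rw [← h4, CharTwo.add_self_eq_zero, e0])
          (by show e' a * e' a = 1; rw [← g4, CharTwo.add_self_eq_zero, e0']) }
  have hK₀ : Good K₀ := by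
    refine ⟨?_, subset_rfl, ?_⟩
    · rintro _ ⟨a, rfl⟩
      rw [(h5 _).2 ⟨a, rfl⟩, (g5 _).2 ⟨a, rfl⟩]
    · rintro _ ⟨a, rfl⟩ ha
      show e' a = 1
      rw [h3 (ha.trans e0.symm), e0']
  obtain ⟨K, hK, hmax⟩ := Set.Finite.exists_maximalFor (fun K : Subgroup (P × P') => Nat.card K)
    {K | Good K} (Set.toFinite _) ⟨K₀, hK₀⟩
  obtain ⟨hKf, hKΔ, hKi⟩ := hK
  have hsqΔ : ∀ x : P × P', f x.1 = f' x.2 → x * x ∈ K := fun x hx =>
    hKΔ ⟨Φ (f x.1), Prod.ext (h7 x.1).symm (by show _ = x.2 * x.2; rw [g7, hx])⟩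
  set p := (MonoidHom.fst P P').comp K.subtype with hp
  have hinj : Function.Injective p := by
    rw [injective_iff_map_eq_one]
    exact fun x hx => Subtype.ext (Prod.ext hx (hKi x x.2 hx))
  have hsurj : Function.Surjective p := by
    by_contra hns
    rw [Function.Surjective] at hns
    push Not at hns
    obtain ⟨g, hg⟩ := hns
    obtain ⟨g', hg'⟩ := g2 (f g)
    set z : P × P' := (g, g')
    have hz : f z.1 = f' z.2 := hg'.symm
    have hzK : ∀ x ∈ K, z * x * z⁻¹ ∈ K := by
      intro x hx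
      have hzx : f (z * x).1 = f' (z * x).2 := by
        show f (z.1 * x.1) = f' (z.2 * x.2)
        rw [h1, g1, hz, hKf x hx]
      have e1 : z * x * z⁻¹ = (z * x * (z * x)) * x⁻¹ * (z * z)⁻¹ := by group
      rw [e1]
      exact mul_mem (mul_mem (hsqΔ _ hzx) (inv_mem hx)) (inv_mem (hsqΔ z hz))
    have hzz := hsqΔ z hz
    have hzK' : ∀ x ∈ K, z⁻¹ * x * z ∈ K := fun x hx => by
      have h := hzK _ (mul_mem (mul_mem (inv_mem hzz) hx) hzz)
      convert h using 1
      group
    let K' : Subgroup (P × P') :=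
      { carrier := {x | x ∈ K ∨ z * x ∈ K}
        one_mem' := Or.inl (one_mem _)
        mul_mem' := by
          rintro x y (hx | hx) (hy | hy)
          · exact Or.inl (mul_mem hx hy)
          · refine Or.inr ?_
            have := mul_mem (hzK x hx) hy
            convert this using 1
            group
          · exact Or.inr (by rw [← mul_assoc]; exact mul_mem hx hy)
          · refine Or.inl ?_
            have := mul_mem (hzK' _ hx) (mul_mem (inv_mem hzz) (mul_mem (hzK _ (one_mem K)) hy))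
            have h' := mul_mem (hzK' _ (mul_mem hx (inv_mem hzz))) hy
            convert h' using 1
            group
        inv_mem' := by
          rintro x (hx | hx)
          · exact Or.inl (inv_mem hx)
          · refine Or.inr ?_
            have h' := mul_mem (hzK _ (inv_mem hx)) hzz
            convert h' using 1
            group }
    have hle : K ≤ K' := fun x hx => Or.inl hx
    have hzK'' : z ∈ K' := Or.inr hzz
    have hgood : Good K' := by
      refine ⟨?_, hKΔ.trans hle, ?_⟩
      · rintro x (hx | hx)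
        · exact hKf x hx
        · have h := hKf _ hx
          rw [show (z * x).1 = z.1 * x.1 from rfl, show (z * x).2 = z.2 * x.2 from rfl, h1, g1, hz] at h
          exact add_left_cancel h
      · rintro x (hx | hx) hx1
        · exact hKi x hx hx1
        · refine absurd ?_ (hg ⟨z * x, hx⟩)
          show g * x.1 = g
          rw [hx1, mul_one]
    have hKK : K' ≤ K := by
      have h1 := hmax hgood (Nat.card_le_card_of_injective _ (Subgroup.inclusion_injective hle))
      exact (Subgroup.eq_of_le_of_card_ge hle h1).ge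
    exact hg ⟨z, hKK hzK''⟩ rfl
  set p' := (MonoidHom.snd P P').comp K.subtype with hp'
  have hinj' : Function.Injective p' := by
    rw [injective_iff_map_eq_one]
    intro x hx
    have hf := hKf x x.2
    rw [show (x : P × P').2 = 1 from hx, f1'] at hf
    obtain ⟨a, ha⟩ := (h5 _).1 hf
    have hm : ((1 : P), e' a) ∈ K := by
      have := mul_mem (inv_mem x.2) (hKΔ ⟨a, rfl⟩)
      convert this using 1
      refine Prod.ext ?_ ?_
      · show 1 = (x : P × P').1⁻¹ * e a
        rw [ha, inv_mul_cancel]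
      · show e' a = (x : P × P').2⁻¹ * e' a
        rw [show (x : P × P').2 = 1 from hx, inv_one, one_mul]
    have ha0 : a = 0 := g3 ((hKi _ hm rfl).trans e0'.symm)
    exact Subtype.ext (Prod.ext (by rw [← ha, ha0, e0]; rfl) hx)
  have hbij' : Function.Bijective p' := by
    refine (Nat.bijective_iff_injective_and_card _).2 ⟨hinj', ?_⟩
    rw [Nat.card_congr (Equiv.ofBijective p ⟨hinj, hsurj⟩), hc, hc']
  exact ⟨(MulEquiv.ofBijective p ⟨hinj, hsurj⟩).symm.trans (MulEquiv.ofBijective p' hbij')⟩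

/-! ### normal forms -/

theorem rt_sq_mul (a b : F) : rt (a * a * b) = a * rt b := by
  rw [rt_mul, rt_eq (rfl : a * a = _)]


theorem norm_zero {P : Type*} [Group P] {k β : F} (hk : k ≠ 0)
    (h : Form P fun v : F × F => k * rt (v.1 * v.2) + β * v.2) : Form P (hyp (F := F)) := by
  refine h.change (fun v => (v.1 / (k * k) + (β / k) * (β / k) * v.2, v.2)) (fun v w => ?_)
    (fun v hv => ?_) (fun v => ?_)
  · exact Prod.ext (by simp [mul_add, add_div]; ring) rfl
  · have h2 : v.2 = 0 := congrArg Prod.snd hv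
    have h1 := congrArg Prod.fst hv
    simp [h2, hk] at h1
    exact Prod.ext h1 h2
  · simp only [hyp]
    rw [add_mul, rt_add, show v.1 / (k * k) * v.2 = (1 / k) * (1 / k) * (v.1 * v.2) by field_simp,
      rt_sq_mul, mul_assoc _ v.2 v.2, rt_sq_mul, rt_eq (rfl : v.2 * v.2 = _)]
    field_simp
    linear_combination (β * v.2) * CharTwo.two_eq_zero (R := F)

theorem form_cases {P : Type*} [Group P] {k α β : F} (hk : k ≠ 0)
    (h : Form P fun v : F × F => α * v.1 + k * rt (v.1 * v.2) + β * v.2) :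
    Form P (hyp (F := F)) ∨ ∃ b : F, (∀ u, b ≠ u + rt u) ∧ Form P (ani b) := by
  rcases eq_or_ne α 0 with rfl | hα
  · refine Or.inl (norm_zero (β := β) hk ?_)
    simpa using h
  set b := β * (α / (k * k)) with hb
  have h' : Form P (ani b) := by
    refine h.change (fun v => (v.1 / α, α / (k * k) * v.2)) (fun v w => Prod.ext (by simp [add_div]) (by simp [mul_add]))
      (fun v hv => Prod.ext ?_ ?_) (fun v => ?_)
    · simpa [hα] using congrArg Prod.fst hv
    · simpa [hα, hk] using congrArg Prod.snd hv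
    · simp only [ani, hb]
      rw [show v.1 / α * (α / (k * k) * v.2) = (1 / k) * (1 / k) * (v.1 * v.2) by field_simp, rt_sq_mul]
      field_simp
  by_cases hu : ∀ u, b ≠ u + rt u
  · exact Or.inr ⟨b, hu, h'⟩
  push Not at hu
  obtain ⟨u, hu⟩ := hu
  refine Or.inl (norm_zero (k := 1) (β := 1) one_ne_zero ?_)
  refine h'.change (fun v => (v.2 + u * v.1, v.1)) (fun v w => Prod.ext (by simp; ring) rfl)
    (fun v hv => ?_) (fun v => ?_)
  · have h1 : v.1 = 0 := congrArg Prod.snd hv
    have h2 := congrArg Prod.fst hv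
    simp [h1] at h2
    exact Prod.ext h1 h2
  · simp only [ani]
    rw [add_mul, rt_add, mul_assoc u, rt_mul u, rt_eq (rfl : v.1 * v.1 = _), hu, one_mul, one_mul,
      mul_comm v.2 v.1]
    linear_combination (u * v.1 + rt u * v.1) * CharTwo.two_eq_zero (R := F)

/-- Any two anisotropic normal forms are equivalent. -/
theorem ani_change {P : Type*} [Group P] {b b' : F} (hb : ∀ u, b ≠ u + rt u) (hb' : ∀ u, b' ≠ u + rt u)
    (h : Form P (ani b)) : Form P (ani b') := by
  classical
  obtain ⟨u, hu⟩ : ∃ u, b + b' = u + rt u := by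
    let φ : F →+ F := AddMonoidHom.mk' (fun u => u + rt u) fun x y => by rw [rt_add]; ring
    have hk : Nat.card φ.ker = 2 := by
      refine (Nat.card_eq_two_iff' (0 : φ.ker)).2 ⟨⟨1, ?_⟩, fun h => one_ne_zero (congrArg Subtype.val h), ?_⟩
      · show (1 : F) + rt 1 = 0
        rw [rt_one, CharTwo.add_self_eq_zero]
      · rintro ⟨x, hx⟩ hne
        refine Subtype.ext ?_
        have h1 : rt x = x := (CharTwo.add_eq_zero.1 (show x + rt x = 0 from hx)).symm
        have h2 : x * x = x * 1 := by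
          rw [mul_one]; have := rt_mul_self x; rwa [h1] at this
        have h3 : x ≠ 0 := fun h => hne (Subtype.ext h)
        exact mul_left_cancel₀ h3 h2
    have hidx : φ.range.index = 2 := by
      have h1 := AddSubgroup.card_mul_index φ.ker
      rw [AddSubgroup.index_ker, hk] at h1
      have h2 := AddSubgroup.card_mul_index φ.range
      rw [← h1, mul_comm 2] at h2
      exact Nat.eq_of_mul_eq_mul_left Nat.card_pos h2
    obtain ⟨u, hu⟩ := (AddSubgroup.add_mem_iff_of_index_two hidx).2
      (iff_of_false (fun ⟨u, hu⟩ => hb u hu.symm) fun ⟨u, hu⟩ => hb' u hu.symm)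
    exact ⟨u, hu.symm⟩
  refine h.change (fun v => (v.1 + u * v.2, v.2)) (fun v w => Prod.ext (by simp; ring) rfl)
    (fun v hv => ?_) (fun v => ?_)
  · have h2 : v.2 = 0 := congrArg Prod.snd hv
    have h1 := congrArg Prod.fst hv
    simp [h2] at h1
    exact Prod.ext h1 h2
  · simp only [ani]
    rw [add_mul, rt_add, mul_assoc u, rt_mul u, rt_eq (rfl : v.2 * v.2 = _)]
    linear_combination v.2 * hu + (u * v.2 + rt u * v.2 - b' * v.2) * CharTwo.two_eq_zero (R := F)

/-- The squaring form of a group from the classification. -/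
theorem exists_form {T : Type*} [Group T] [Finite T] {n : ℕ} {C : Subgroup T} {α ρ : MulAut T}
    (D : Dat n C α ρ) (hna : ∃ x y : T, x * y ≠ y * x) :
    Form T (hyp (F := GaloisField 2 n)) ∨
      ∃ b : GaloisField 2 n, (∀ u, b ≠ u + rt u) ∧ Form T (ani b) := by
  classical
  rcases classify (Nat.card T) T n C α ρ le_rfl D with ⟨hab, -⟩ | ⟨-, hcard, hsq⟩
  · obtain ⟨x, y, hxy⟩ := hna
    exact absurd (hab x y) hxy
  obtain ⟨c, e, K⟩ := D.exists_coord
  obtain ⟨f, Fr⟩ := exists_frame D K hsq hcard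
  obtain ⟨k, hk⟩ := Fr.formula K hsq
  have hk0 : k ≠ 0 := by
    rintro rfl
    obtain ⟨x, y, hxy⟩ := hna
    exact hxy (commutatorElement_eq_one_iff_mul_comm.1 (by rw [hk, zero_mul, K.line.zero]))
  choose S hS using Fr.surj
  choose Φ hΦ using fun v => (K.range _).1 (hsq (S v))
  have hsqf : ∀ x, x * x = e (Φ (f x)) := fun x => by
    obtain ⟨v, hv, h⟩ := Fr.congr (hS (f x))
    rw [hΦ]
    conv_lhs => rw [h]
    calc S (f x) * v * (S (f x) * v) = S (f x) * (v * S (f x)) * v := by group
      _ = S (f x) * S (f x) * (v * v) := by rw [← D.central v hv]; group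
      _ = _ := by rw [D.exp2 v hv, mul_one]
  have hform : Form T Φ := ⟨f, e, Fr.add, Fr.surj, K.inj, K.line.add,
    fun x => (Fr.ker x).trans (K.range x), fun a x => D.central _ (K.mem a) x, hsqf⟩
  have hsum : ∀ v w, Φ (v + w) = Φ v + Φ w + k * (rt (w.1 * v.2) + rt (w.2 * v.1)) := by
    intro v w
    refine K.inj ?_
    rw [K.line.add, K.line.add, show v + w = f (S v * S w) by rw [Fr.add, hS, hS], ← hsqf, hΦ, hΦ]
    have hf := hk (S w) (S v)
    rw [hS, hS] at hf
    rw [← hf]
    have hc := D.central _ (D.cm_mem hsq (S w) (S v))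
    calc S v * S w * (S v * S w) = S v * (⁅S w, S v⁆ * (S v * S w)) * S w := by
          simp only [commutatorElement_def]; group
      _ = S v * ((S v * S w) * ⁅S w, S v⁆) * S w := by rw [hc]
      _ = S v * S v * (S w * (⁅S w, S v⁆ * S w)) := by group
      _ = S v * S v * (S w * (S w * ⁅S w, S v⁆)) := by rw [hc (S w)]
      _ = _ := by group
  have hscale : ∀ (a : GaloisField 2 n) (v : GaloisField 2 n × GaloisField 2 n),
      Φ (a * v.1, a * v.2) = a * Φ v := by
    intro a v
    rcases eq_or_ne a 0 with rfl | ha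
    · have h := hsum 0 0
      simp only [add_zero, Prod.fst_zero, Prod.snd_zero, mul_zero, rt_zero, left_eq_add] at h
      simp only [zero_mul]
      exact h
    obtain ⟨j, rfl⟩ := K.gen a ha
    clear ha
    induction j generalizing v with
    | zero => simp
    | succ j ih =>
      have hstep : ∀ w, Φ (c * w.1, c * w.2) = c * Φ w := fun w => K.inj (by
        have h := hsqf (ρ (S w))
        rw [Fr.scale, hS, ← map_mul, ← hΦ w, ← K.line.scale] at h
        exact h.symm)
      rw [pow_succ', mul_assoc, mul_assoc, hstep (c ^ j * v.1, c ^ j * v.2), ih, mul_assoc]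
  refine form_cases (k := k) (α := Φ (1, 0)) (β := Φ (0, 1)) hk0 ?_
  convert hform using 1
  funext v
  have h := hsum (v.1, 0) (0, v.2)
  simp only [Prod.mk_add_mk, add_zero, zero_add, mul_zero, rt_zero] at h
  have a1 := hscale v.1 (1, 0)
  have a2 := hscale v.2 (0, 1)
  simp only [mul_one, mul_zero] at a1 a2
  rw [show v = (v.1, v.2) from rfl, h, a1, a2, mul_comm v.2 v.1]
  ring

/-! ### the models -/

open Schur.LThreeFour in
/-- The Sylow 2-subgroups of `PSL(3, q)`. -/
theorem form_psl (n : ℕ) (hn : n ≠ 0) :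
    ∃ S : Sylow 2 (Matrix.ProjectiveSpecialLinearGroup (Fin 3) (GaloisField 2 n)),
      Form ↥(S : Subgroup (Matrix.ProjectiveSpecialLinearGroup (Fin 3) (GaloisField 2 n)))
        (hyp (F := GaloisField 2 n)) := by
  classical
  haveI := Fact.mk Nat.prime_two
  have hF : Nat.card (GaloisField 2 n) = 2 ^ n := GaloisField.card 2 n hn
  have h2 : (2 : GaloisField 2 n) = 0 := CharP.cast_eq_zero (GaloisField 2 n) 2
  let U : Subgroup (Matrix.ProjectiveSpecialLinearGroup (Fin 3) (GaloisField 2 n)) :=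
    { carrier := Set.range fun t : GaloisField 2 n × GaloisField 2 n × GaloisField 2 n => pu t.1 t.2.1 t.2.2
      one_mem' := ⟨(0, 0, 0), pu_one⟩
      mul_mem' := by
        rintro _ _ ⟨⟨a, b, d⟩, rfl⟩ ⟨⟨a', b', d'⟩, rfl⟩
        exact ⟨(a + a', b + b', d + d' + a * b'), (pu_mul a b d a' b' d').symm⟩
      inv_mem' := by
        rintro _ ⟨⟨a, b, d⟩, rfl⟩
        refine ⟨(-a, -b, a * b - d), eq_inv_of_mul_eq_one_left ?_⟩
        show pu (-a) (-b) (a * b - d) * pu a b d = 1
        rw [pu_mul, ← pu_one]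
        congr 1 <;> ring }
  let E : GaloisField 2 n × GaloisField 2 n × GaloisField 2 n ≃ U := Equiv.ofBijective
    (fun t => ⟨pu t.1 t.2.1 t.2.2, t, rfl⟩)
    ⟨fun t t' h => by
      obtain ⟨e1, e2, e3⟩ := pu_injective (congrArg Subtype.val h)
      exact Prod.ext e1 (Prod.ext e2 e3), fun ⟨g, t, ht⟩ => ⟨t, Subtype.ext ht⟩⟩
  have hU : Nat.card U = 2 ^ (3 * n) := by
    rw [← Nat.card_congr E, Nat.card_prod, Nat.card_prod, hF]; ring
  have hidx : ¬ 2 ∣ U.index := by
    intro hd
    have h := Classical.card_PSL_mul (F := GaloisField 2 n) 3 (by norm_num)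
    rw [← U.card_mul_index, hU, Classical.card_SL_fin' 3, hF] at h
    simp only [Finset.prod_range_succ, Finset.prod_range_zero, one_mul] at h
    norm_num at h
    rw [← pow_mul 2 n 3, mul_comm n 3] at h
    have hpos : 0 < 2 ^ (3 * n) := by positivity
    have h' : Nat.gcd 3 (2 ^ n - 1) * U.index = ((2 ^ n) ^ 2 - 1) * ((2 ^ n) ^ 3 - 1) :=
      Nat.eq_of_mul_eq_mul_left hpos (by rw [← pow_mul 2 n 3, mul_comm n 3, ← h]; ring)
    have hev : Even (2 ^ n) := Nat.even_pow.2 ⟨even_two, hn⟩
    have hodd : ∀ m : ℕ, m ≠ 0 → Odd ((2 ^ n) ^ m - 1) := fun m hm =>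
      Nat.Even.sub_odd (Nat.one_le_pow _ _ (Nat.two_pow_pos n)) (Nat.even_pow.2 ⟨hev, hm⟩) odd_one
    have h2' : 2 ∣ ((2 ^ n) ^ 2 - 1) * ((2 ^ n) ^ 3 - 1) := h' ▸ dvd_mul_of_dvd_right hd _
    exact (Nat.not_even_iff_odd.2 ((hodd 2 (by norm_num)).mul (hodd 3 (by norm_num))))
      (even_iff_two_dvd.2 h2')
  refine ⟨(IsPGroup.of_card hU).toSylow hidx, ?_⟩
  show Form ↥U _
  refine ⟨fun x => ((E.symm x).1, (E.symm x).2.1), fun z => E (0, 0, z * z), fun x y => ?_, fun v =>
    ⟨E (v.1, v.2, 0), by show ((E.symm (E _)).1, (E.symm (E _)).2.1) = v; rw [E.symm_apply_apply]⟩,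
    fun a b h => mul_self_inj_two (congrArg (fun t => t.2.2) (E.injective h)), fun a b => ?_, fun x => ?_, fun a x => ?_,
    fun x => ?_⟩
  · obtain ⟨⟨a, b, d⟩, rfl⟩ := E.surjective x
    obtain ⟨⟨a', b', d'⟩, rfl⟩ := E.surjective y
    have h : E (a, b, d) * E (a', b', d') = E (a + a', b + b', d + d' + a * b') :=
      Subtype.ext (pu_mul a b d a' b' d')
    simp only [h, Equiv.symm_apply_apply, Prod.mk_add_mk]
  · refine Subtype.ext ?_
    show pu 0 0 ((a + b) * (a + b)) = pu 0 0 (a * a) * pu 0 0 (b * b)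
    rw [pu_mul, CharTwo.add_mul_self]; simp
  · obtain ⟨⟨a, b, d⟩, rfl⟩ := E.surjective x
    simp only [Equiv.symm_apply_apply, Prod.mk_eq_zero]
    refine ⟨fun h => ⟨rt d, by rw [h.1, h.2, rt_mul_self]⟩, ?_⟩
    rintro ⟨z, hz⟩
    have := E.injective hz
    simp only [Prod.mk.injEq] at this
    exact ⟨this.1.symm, this.2.1.symm⟩
  · obtain ⟨⟨a', b', d'⟩, rfl⟩ := E.surjective x
    refine Subtype.ext ?_
    show pu a' b' d' * pu 0 0 (a * a) = pu 0 0 (a * a) * pu a' b' d'
    rw [pu_mul, pu_mul]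
    congr 1 <;> ring
  · obtain ⟨⟨a, b, d⟩, rfl⟩ := E.surjective x
    simp only [Equiv.symm_apply_apply, hyp]
    refine Subtype.ext ?_
    show pu a b d * pu a b d = pu 0 0 (rt (a * b) * rt (a * b))
    rw [pu_mul, rt_mul_self, CharTwo.add_self_eq_zero, CharTwo.add_self_eq_zero, CharTwo.add_self_eq_zero,
      zero_add]

open CfsgLib.Involutions.U34 in
/-- The Sylow 2-subgroups of `PSU(3, q)`. -/
theorem form_psu (n : ℕ) (hn : n ≠ 0) :
    ∃ S : Sylow 2 (Cfsg.PSU 3 (GaloisField 2 (2 * n)) (2 ^ n)), ∃ b : GaloisField 2 n,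
      (∀ u, b ≠ u + rt u) ∧
        Form ↥(S : Subgroup (Cfsg.PSU 3 (GaloisField 2 (2 * n)) (2 ^ n))) (ani b) := by
  classical
  have hF : Nat.card (GaloisField 2 (2 * n)) = (2 ^ n) ^ 2 := by
    rw [GaloisField.card 2 (2 * n) (by omega), ← pow_mul, mul_comm]
  obtain ⟨S⟩ : Nonempty (Sylow 2 (Cfsg.PSU 3 (GaloisField 2 (2 * n)) (2 ^ n))) := inferInstance
  obtain ⟨σ, h, ⟨d⟩, -⟩ := Chev.Suz2.exists_param_gen hn hF S
  obtain ⟨x, hx⟩ := Classical.Unitary.exists_trace h
  have h2 : (2 : GaloisField 2 (2 * n)) = 0 := CharP.cast_eq_zero (GaloisField 2 (2 * n)) 2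
  set K := σ.eqLocusField (RingHom.id (GaloisField 2 (2 * n)))
  haveI : Fintype K := Fintype.ofFinite K
  haveI : Fintype (GaloisField 2 n) := Fintype.ofFinite _
  let ι : GaloisField 2 n ≃+* K := FiniteField.ringEquivOfCardEq (by
    rw [← Nat.card_eq_fintype_card, ← Nat.card_eq_fintype_card, GaloisField.card 2 n hn,
      Classical.fixed_card_eq hF h.pow])
  let j : GaloisField 2 n →+* GaloisField 2 (2 * n) := K.subtype.comp ι.toRingHom
  have hfix : ∀ z, σ (j z) = j z := fun z => (ι z).2
  have hrange : ∀ y : GaloisField 2 (2 * n), σ y = y → ∃ z, j z = y := fun y hy =>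
    ⟨ι.symm ⟨y, hy⟩, congrArg Subtype.val (ι.apply_symm_apply ⟨y, hy⟩)⟩
  have hj : Function.Injective j := j.injective
  have hxx : σ x = 1 + x := by linear_combination hx + (-x) * h2
  obtain ⟨N, hN⟩ := hrange (x * σ x) (by rw [map_mul, h.invol]; exact mul_comm _ _)
  refine ⟨S, rt N, fun u hu => ?_, ?_⟩
  · have hN' : N = u * u + u := by
      rw [← rt_mul_self N, hu]
      linear_combination rt_mul_self u + (u * rt u) * CharTwo.two_eq_zero (R := GaloisField 2 n)
    have h0 : (j u + x) * (j u + σ x) = 0 := by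
      rw [hN', map_add, map_mul] at hN
      linear_combination (j u) * hx - hN + (j u * j u + j u) * h2
    rcases mul_eq_zero.1 h0 with e | e
    · have e' : x = j u := by linear_combination e - (j u) * h2
      rw [e', hfix] at hx
      exact one_ne_zero (by linear_combination (-1 : GaloisField 2 (2 * n)) * hx + (j u) * h2)
    · have e' : x = j u + 1 := by linear_combination e - hxx + (-1 - j u) * h2 + 0 * h2
      rw [e', map_add, map_one, hfix] at hx
      exact one_ne_zero (by linear_combination (-1 : GaloisField 2 (2 * n)) * hx + (j u + 1) * h2)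
  let e : GaloisField 2 n → ↥(S : Subgroup (Cfsg.PSU 3 (GaloisField 2 (2 * n)) (2 ^ n))) := fun z =>
    d.el 0 (j (z * z)) (by rw [hfix, map_zero, mul_zero]; linear_combination (j (z * z)) * h2)
  choose C B hB hel using d.surj
  have hV : ∀ c, σ (c + σ c) = c + σ c := fun c => by rw [map_add, h.invol, add_comm]
  choose V hV' using fun c => hrange _ (hV c)
  have hU : ∀ c, σ (c + (c + σ c) * x) = c + (c + σ c) * x := fun c => by
    rw [map_add, map_mul, hV, hxx]
    linear_combination (σ c) * h2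
  choose U hU' using fun c => hrange _ (hU c)
  let f : ↥(S : Subgroup (Cfsg.PSU 3 (GaloisField 2 (2 * n)) (2 ^ n))) → GaloisField 2 n × GaloisField 2 n :=
    fun t => (U (C t), V (C t))
  have hC : ∀ c b hb, C (d.el c b hb) = c := fun c b hb => (d.inj _ _ _ _ _ _ (hel (d.el c b hb))).1
  have hdec : ∀ c, c = j (U c) + j (V c) * x := fun c => by
    rw [hU', hV']; linear_combination (-(c + σ c) * x) * h2
  have huniq : ∀ u v u' v', j u + j v * x = j u' + j v' * x → u = u' ∧ v = v' := by
    intro u v u' v' huv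
    have h' := congrArg σ huv
    rw [map_add, map_add, map_mul, map_mul, hfix, hfix, hfix, hfix] at h'
    have hv : j v = j v' := by
      linear_combination huv + h' + (j v' - j v) * hx + (j u' - j u) * h2
    exact ⟨hj (by linear_combination huv - x * hv), hj hv⟩
  refine ⟨f, e, fun p q => ?_, fun v => ?_, fun a b hab => ?_, fun a b => ?_, fun t => ?_,
    fun a t => ?_, fun t => ?_⟩
  · obtain ⟨c, b, hb, rfl⟩ := d.surj p
    obtain ⟨c', b', hb', rfl⟩ := d.surj q
    obtain ⟨hb'', hm⟩ := d.mul c b hb c' b' hb'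
    simp only [f, hm, hC]
    have h' := (huniq (U (c + c')) (V (c + c')) (U c + U c') (V c + V c') (by
      rw [map_add, map_add, ← hdec]; linear_combination hdec c + hdec c'))
    exact Prod.ext h'.1 h'.2
  · set c := j v.1 + j v.2 * x
    have hb : c * σ c * x + σ (c * σ c * x) = c * σ c := by
      simp only [map_mul, h.invol]
      linear_combination (c * σ c) * hx
    refine ⟨d.el c _ hb, ?_⟩
    simp only [f, hC]
    have h' := huniq (U c) (V c) v.1 v.2 (hdec c).symm
    exact Prod.ext h'.1 h'.2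
  · exact mul_self_inj_two (hj (d.inj _ _ _ _ _ _ hab).2)
  · obtain ⟨hb, hm⟩ := d.mul 0 (j (a * a)) (by rw [hfix, map_zero, mul_zero]; linear_combination (j (a * a)) * h2)
      0 (j (b * b)) (by rw [hfix, map_zero, mul_zero]; linear_combination (j (b * b)) * h2)
    show _ = d.el _ _ _ * d.el _ _ _
    rw [hm]
    simp only [e]
    congr 1
    all_goals first
      | exact (add_zero _).symm
      | rw [map_zero, zero_mul, add_zero, CharTwo.add_mul_self, map_add]
  · obtain ⟨c, b, hb, rfl⟩ := d.surj t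
    simp only [f, hC]
    constructor
    · intro h0
      obtain ⟨hu, hv⟩ := Prod.mk_eq_zero.1 h0
      have hc0 : c = 0 := by rw [hdec c, hu, hv, map_zero, zero_mul, add_zero]
      subst hc0
      obtain ⟨z, hz⟩ := hrange b (by simp at hb; linear_combination hb - b * h2)
      refine ⟨rt z, ?_⟩
      simp only [e]
      congr 1
      rw [rt_mul_self, hz]
    · rintro ⟨z, hz⟩
      obtain ⟨hc0, -⟩ := d.inj _ _ _ _ _ _ hz
      have h' := huniq (U c) (V c) 0 0 (by rw [← hdec, ← hc0, map_zero, zero_mul, add_zero])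
      exact Prod.ext h'.1 h'.2
  · obtain ⟨c, b, hb, rfl⟩ := d.surj t
    exact (d.comm_iff h2).2 (by simp)
  · obtain ⟨c, b, hb, rfl⟩ := d.surj t
    obtain ⟨hb', hs⟩ := d.sq_eq h2 (h := hb)
    rw [hs]
    simp only [f, hC, e]
    congr 1
    have hN' : j (rt N) * j (rt N) = x * σ x := by rw [← map_mul, rt_mul_self, hN]
    have hR : j (rt (U c * V c)) * j (rt (U c * V c)) = j (U c) * j (V c) := by
      rw [← map_mul, rt_mul_self, map_mul]
    simp only [ani, map_add, map_mul]
    conv_lhs => rw [hdec c, map_add, map_mul, hfix, hfix]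
    linear_combination (j (U c) * j (V c)) * hx - hR - (j (V c) * j (V c)) * hN'
      - (j (U c) * j (rt (U c * V c)) + j (U c) * j (rt N) * j (V c)
          + j (rt (U c * V c)) * j (rt N) * j (V c)) * h2

end CfsgLib.Small.Singer
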