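import Mathlib

/-!
Biadditive forms `g` on a finite field of characteristic two with `g (k x) (k y) = k g x y`.
-/

set_option autoImplicit false

namespace CfsgLib.Small.Singer

variable {F : Type*} [Field F] [Finite F] [CharP F 2]

/-- A biadditive map homogeneous of degree one under simultaneous scaling. -/
structure Weighted (g : F → F → F) : Prop where
  add_left : ∀ x y z, g (x + y) z = g x z + g y z
  add_right : ∀ x y z, g x (y + z) = g x y + g x z
  scale : ∀ k x y, g (k * x) (k * y) = k * g x y

theorem weighted_of_gen {g : F → F → F} (c : F) (hgen : ∀ x : F, x ≠ 0 → ∃ j : ℕ, x = c ^ j)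
    (hl : ∀ x y z, g (x + y) z = g x z + g y z) (hr : ∀ x y z, g x (y + z) = g x y + g x z)
    (hc : ∀ x y, g (c * x) (c * y) = c * g x y) : Weighted g := by
  refine ⟨hl, hr, fun k x y => ?_⟩
  rcases eq_or_ne k 0 with rfl | hk
  · have h := hl 0 0 (0 * y)
    simp only [zero_mul, add_zero] at h ⊢
    rwa [left_eq_add] at h
  obtain ⟨j, rfl⟩ := hgen k hk
  clear hk
  induction j generalizing x y with
  | zero => simp
  | succ j ih =>
    rw [pow_succ', mul_assoc, mul_assoc, hc, ih, mul_assoc]

/-- An alternating weighted form vanishes. -/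
theorem Weighted.eq_zero {g : F → F → F} (H : Weighted g) (ha : ∀ x, g x x = 0) :
    ∀ x y, g x y = 0 := by
  haveI := Fintype.ofFinite F
  set h : F → F := fun z => g z 1
  have hadd : ∀ a b, h (a + b) = h a + h b := fun a b => H.add_left a b 1
  have h0 : h 0 = 0 := by
    have e := hadd 0 0
    rwa [add_zero, left_eq_add] at e
  have h1 : h 1 = 0 := ha 1
  have hg : ∀ x y, y ≠ 0 → g x y = y * h (x / y) := fun x y hy => by
    have := H.scale y (x / y) 1
    rwa [mul_div_cancel₀ _ hy, mul_one] at this
  have hinv : ∀ s : F, s ≠ 0 → h (1 / s) = h s / s := by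
    intro s hs
    set t := s + 1 with ht
    have e : g t s = h t := by
      have h2 : s = t + 1 := by rw [ht, add_assoc, CharTwo.add_self_eq_zero, add_zero]
      conv_lhs => rw [h2, H.add_right, ha, zero_add]
    rw [hg t s hs, show t / s = 1 + 1 / s by rw [ht]; field_simp, hadd, h1, zero_add, ht, hadd, h1,
      add_zero] at e
    rw [eq_div_iff hs, mul_comm]
    exact e
  have hsq : ∀ s : F, h (s * s) = 0 := by
    intro s
    rcases eq_or_ne s 0 with rfl | hs0
    · rw [zero_mul]; exact h0
    rcases eq_or_ne (1 + s) 0 with hs1 | hs1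
    · rw [← CharTwo.add_eq_zero.1 hs1, one_mul]; exact h1
    set u := s + s * s with hu
    have hu' : u = s * (1 + s) := by rw [hu]; ring
    have hu0 : u ≠ 0 := by rw [hu']; exact mul_ne_zero hs0 hs1
    have e : 1 / u = 1 / s + 1 / (1 + s) := by
      rw [hu']; field_simp
      linear_combination (-s) * CharTwo.two_eq_zero (R := F)
    have e2 : h (1 / u) = h s / u := by
      rw [e, hadd, hinv s hs0, hinv _ hs1, hadd, h1, zero_add, hu']
      field_simp
      linear_combination (h s * s) * CharTwo.two_eq_zero (R := F)
    rw [hinv u hu0] at e2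
    have e3 : h u = h s := (div_left_inj' hu0).1 e2
    rw [hu, hadd] at e3
    exact add_eq_left.1 e3
  intro x y
  rcases eq_or_ne y 0 with rfl | hy
  · have e := H.add_right x 0 0
    rwa [add_zero, left_eq_add] at e
  obtain ⟨r, hr⟩ := FiniteField.isSquare_of_char_two (CharP.ringChar_of_prime_eq_zero Nat.prime_two
    (by exact_mod_cast CharTwo.two_eq_zero (R := F))) (x / y)
  rw [hg x y hy, hr, hsq, mul_zero]

theorem Weighted.comm {g : F → F → F} (H : Weighted g) (x y : F) : g x y = g y x := by
  have Ha : Weighted fun a b => g a b + g b a :=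
    ⟨fun a b c => by rw [H.add_left, H.add_right]; ring, fun a b c => by rw [H.add_right, H.add_left]; ring,
      fun k a b => by rw [H.scale, H.scale]; ring⟩
  exact CharTwo.add_eq_zero.1 (Ha.eq_zero (fun a => CharTwo.add_self_eq_zero _) x y)

/-- A scalar passes from one argument to the other. -/
theorem Weighted.shift {g : F → F → F} (H : Weighted g) (m x y : F) : g (m * x) y = g x (m * y) := by
  have Hxy : Weighted fun a b => g (a * x) (b * y) :=
    ⟨fun a b c => by rw [add_mul, H.add_left], fun a b c => by rw [add_mul, H.add_right],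
      fun k a b => by rw [mul_assoc, mul_assoc, H.scale]⟩
  simpa using Hxy.comm m 1

theorem Weighted.sq_shift {g : F → F → F} (H : Weighted g) (m x y : F) :
    g (m * m * x) y = m * g x y := by
  rw [mul_assoc, H.shift, H.scale]

theorem Weighted.mul_left {g : F → F → F} (H : Weighted g) {m r : F} (hr : r * r = m) (x y : F) :
    g (m * x) y = r * g x y := by
  rw [← hr, H.sq_shift]

/-- A weighted form is a multiple of the square root of the product. -/
theorem Weighted.eq_sqrt {g : F → F → F} (H : Weighted g) (r x y : F) (hr : r * r = x * y) :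
    g x y = r * g 1 1 := by
  rw [show x = x * 1 from (mul_one x).symm, H.shift, H.comm, mul_one] at *
  simpa using H.mul_left hr 1 1

end CfsgLib.Small.Singer
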